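import Groth.Agent.S0342
import Groth.Agent.S0344
import Groth.Prelude.Def_Dual3

/-!
# Transfer of the Gorenstein property along isomorphisms of rings and schemes
-/

set_option linter.style.haveILetI false

universe u

open CategoryTheory CategoryTheory.Limits AlgebraicGeometry

namespace Groth.Agent.Dual3Lib

/-- A field is a Gorenstein local ring. -/
theorem isGorensteinLocalRing_field (K : Type u) [Field K] : LocCoh.IsGorensteinLocalRing K :=
  haveI : IsRegularLocalRing K := inferInstance
  Groth.Agent.S0342.result K

/-- The Gorenstein property is invariant under ring isomorphisms. -/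
theorem isGorensteinLocalRing_of_ringEquiv {A B : Type u} [CommRing A] [CommRing B] (e : A ≃+* B)
    (h : LocCoh.IsGorensteinLocalRing A) : LocCoh.IsGorensteinLocalRing B := by
  haveI : IsNoetherianRing A := h.toIsNoetherian
  haveI : IsLocalRing A := h.toIsLocalRing
  haveI : IsLocalRing B := e.isLocalRing
  haveI : IsNoetherianRing B := isNoetherianRing_of_ringEquiv A e
  letI := e.toRingHom.toAlgebra
  haveI : IsLocalHom (algebraMap A B) :=
    ⟨fun a ha => (MulEquiv.isUnit_map (e : A ≃* B)).mp ha⟩
  haveI : Module.Flat A B := by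
    let l : A ≃ₗ[A] B :=
      { e.toAddEquiv with map_smul' := fun r x => by simp [Algebra.smul_def, RingHom.algebraMap_toAlgebra] }
    exact Module.Flat.of_linearEquiv l.symm
  refine (Groth.Agent.S0344.result A B).2 ⟨h, ?_⟩
  have hm : (IsLocalRing.maximalIdeal A).map (algebraMap A B) = IsLocalRing.maximalIdeal B := by
    refine le_antisymm (((IsLocalRing.local_hom_TFAE _).out 0 2).mp ‹_›) fun b hb => ?_
    rw [← e.apply_symm_apply b]
    refine Ideal.mem_map_of_mem _ ?_
    simp only [IsLocalRing.mem_maximalIdeal, mem_nonunits_iff] at hb ⊢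
    exact fun hu => hb (by simpa using hu.map e)
  rw [hm]
  haveI : (IsLocalRing.maximalIdeal B).IsMaximal := inferInstance
  letI := Ideal.Quotient.field (IsLocalRing.maximalIdeal B)
  exact isGorensteinLocalRing_field _

/-- Stalks along an isomorphism of schemes. -/
theorem isGorensteinLocalRing_stalk_iff {X Y : Scheme.{u}} (φ : X ⟶ Y) [IsOpenImmersion φ] (x : X) :
    LocCoh.IsGorensteinLocalRing (X.presheaf.stalk x) ↔
      LocCoh.IsGorensteinLocalRing (Y.presheaf.stalk (φ x)) :=
  ⟨isGorensteinLocalRing_of_ringEquiv (asIso (φ.stalkMap x)).commRingCatIsoToRingEquiv.symm,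
    isGorensteinLocalRing_of_ringEquiv (asIso (φ.stalkMap x)).commRingCatIsoToRingEquiv⟩

end Groth.Agent.Dual3Lib
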