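import Groth.Agent.CMBCAny.Basic
import Groth.Agent.S1760
import Groth.Agent.Dual3Lib.GorTransfer

/-!
# Gorenstein morphisms in terms of local rings: composition and base change
-/

set_option autoImplicit false
set_option backward.isDefEq.respectTransparency false
set_option linter.style.haveILetI false
universe u

open AlgebraicGeometry CategoryTheory CategoryTheory.Limits IsLocalRing TensorProduct

namespace Groth.Agent.Dual3Lib

open Groth.Agent

theorem isGor_congr {R S : Type u} [CommRing R] [CommRing S] (e : R ≃+* S) :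
    LocCoh.IsGorensteinLocalRing R ↔ LocCoh.IsGorensteinLocalRing S :=
  ⟨isGorensteinLocalRing_of_ringEquiv e, isGorensteinLocalRing_of_ringEquiv e.symm⟩

/-- Gorensteinness of the source of a flat local homomorphism. -/
theorem isGor_iff (A B : Type u) [CommRing A] [CommRing B] [IsNoetherianRing A] [IsNoetherianRing B]
    [IsLocalRing A] [IsLocalRing B] [Algebra A B] [IsLocalHom (algebraMap A B)] [Module.Flat A B] :
    LocCoh.IsGorensteinLocalRing B ↔
      LocCoh.IsGorensteinLocalRing A ∧
        LocCoh.IsGorensteinLocalRing (B ⧸ (maximalIdeal A).map (algebraMap A B)) :=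
  Groth.Agent.S0344.result A B

/-- The local rings of the tensor product of two fields, the second finitely generated. -/
theorem isGor_localization_tensor_field (k K L : Type u) [Field k] [Field K] [Field L] [Algebra k K]
    [Algebra k L] [Algebra.EssFiniteType k L] (q : PrimeSpectrum (K ⊗[k] L)) :
    LocCoh.IsGorensteinLocalRing (Localization.AtPrime q.asIdeal) := by
  haveI : (q.asIdeal.comap (algebraMap K (K ⊗[k] L))).IsPrime := Ideal.IsPrime.comap _
  refine (Groth.Agent.S1760.result k L (IntermediateField.fg_top k L) K q ?_).1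
    (isGorensteinLocalRing_field K)
  rw [Ideal.eq_bot_of_prime (q.asIdeal.comap (algebraMap K (K ⊗[k] L))),
    Ideal.eq_bot_of_prime (maximalIdeal K)]

/-- The local rings of a fibre of the base change by a finitely generated field extension. -/
theorem isGor_stalk_of_field_pullback {k K L : Type u} [Field k] [Field K] [Field L] [Algebra k K]
    [Algebra k L] [Algebra.EssFiniteType k L] {G : Scheme.{u}} {a : G ⟶ Spec (CommRingCat.of K)}
    {b : G ⟶ Spec (CommRingCat.of L)}
    (h : IsPullback a b (Spec.map (CommRingCat.ofHom (algebraMap k K))) (Spec.map (CommRingCat.ofHom (algebraMap k L))))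
    (w : G) : LocCoh.IsGorensteinLocalRing (G.presheaf.stalk w) := by
  let e : G ⟶ Spec (CommRingCat.of (K ⊗[k] L)) := (h.isoPullback ≪≫ pullbackSpecIso k K L).hom
  let v := e w
  refine isGorensteinLocalRing_of_ringEquiv ((asIso (e.stalkMap w)).commRingCatIsoToRingEquiv) ?_
  exact isGorensteinLocalRing_of_ringEquiv
    (Spec.stalkIso (CommRingCat.of (K ⊗[k] L)) v).symm.commRingCatIsoToRingEquiv
    (isGor_localization_tensor_field k K L v)

/-- The same, with the other extension finitely generated. -/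
theorem isGor_stalk_of_field_pullback' {k K L : Type u} [Field k] [Field K] [Field L] [Algebra k K]
    [Algebra k L] [Algebra.EssFiniteType k K] {G : Scheme.{u}} {a : G ⟶ Spec (CommRingCat.of K)}
    {b : G ⟶ Spec (CommRingCat.of L)}
    (h : IsPullback a b (Spec.map (CommRingCat.ofHom (algebraMap k K))) (Spec.map (CommRingCat.ofHom (algebraMap k L))))
    (w : G) : LocCoh.IsGorensteinLocalRing (G.presheaf.stalk w) :=
  isGor_stalk_of_field_pullback h.flip w

variable {X S X' T : Scheme.{u}} {f : X ⟶ S} {f' : X' ⟶ T} {g' : X' ⟶ X} {g : T ⟶ S}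

theorem isGorensteinAt_iff_sm (f : X ⟶ S) (x : X) (s : S) (hs : f x = s) :
    Dual3.IsGorensteinAt f x ↔ (FibFlat.sm f x s hs).Flat ∧ LocCoh.IsGorensteinLocalRing
      (↑(X.presheaf.stalk x) ⧸ (maximalIdeal (S.presheaf.stalk s)).map (FibFlat.sm f x s hs)) := by
  subst hs
  rw [FibFlat.sm_self]
  exact and_congr_right fun _ => (isGor_congr (Triage.CMMor.exists_equiv_fibre_stalk f x).some).symm

/-- The fibre rings along a composite of local homomorphisms `A → B → C`, with `C` flat over `B`. -/
theorem fibre_comp {A B C : Type u} [CommRing A] [CommRing B] [CommRing C] [IsLocalRing A] [IsLocalRing B]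
    [IsLocalRing C] (ψ : A →+* B) (φ : B →+* C) [IsLocalHom ψ] [IsLocalHom φ] (hφ : φ.Flat)
    [IsNoetherianRing (B ⧸ (maximalIdeal A).map ψ)] [IsNoetherianRing (C ⧸ (maximalIdeal A).map (φ.comp ψ))] :
    LocCoh.IsGorensteinLocalRing (C ⧸ (maximalIdeal A).map (φ.comp ψ)) ↔
      LocCoh.IsGorensteinLocalRing (B ⧸ (maximalIdeal A).map ψ) ∧
        LocCoh.IsGorensteinLocalRing (C ⧸ (maximalIdeal B).map φ) := by
  let I := (maximalIdeal A).map ψ
  have hIm : I ≤ maximalIdeal B := map_maximalIdeal_le ψ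
  have hJ : (maximalIdeal A).map (φ.comp ψ) = I.map φ := (Ideal.map_map ψ φ).symm
  haveI : IsNoetherianRing (C ⧸ I.map φ) :=
    isNoetherianRing_of_ringEquiv (C ⧸ (maximalIdeal A).map (φ.comp ψ)) (Ideal.quotEquivOfEq hJ)
  rw [isGor_congr (Ideal.quotEquivOfEq hJ)]
  haveI : Nontrivial (B ⧸ I) :=
    Ideal.Quotient.nontrivial_iff.2 fun h => (maximalIdeal.isMaximal B).ne_top (top_le_iff.1 (h ▸ hIm))
  haveI : Nontrivial (C ⧸ I.map φ) :=
    Ideal.Quotient.nontrivial_iff.2 fun h => (maximalIdeal.isMaximal C).ne_top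
      (top_le_iff.1 (h ▸ (Ideal.map_mono hIm).trans (map_maximalIdeal_le φ)))
  haveI : IsLocalRing (B ⧸ I) := .of_surjective' (Ideal.Quotient.mk _) Ideal.Quotient.mk_surjective
  haveI : IsLocalRing (C ⧸ I.map φ) := .of_surjective' (Ideal.Quotient.mk _) Ideal.Quotient.mk_surjective
  letI : Algebra B C := φ.toAlgebra
  haveI : Module.Flat B C := hφ
  haveI : Module.Flat (B ⧸ I) (C ⧸ I.map (algebraMap B C)) :=
    Module.Flat.of_linearEquiv (((TensorProduct.quotTensorEquivQuotSMul C I).trans
      ((Submodule.quotEquivOfEq _ _ (Ideal.smul_top_eq_map I)).trans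
        (Submodule.Quotient.restrictScalarsEquiv B _))).extendScalarsOfSurjective
          Ideal.Quotient.mk_surjective).symm
  haveI : Nontrivial (C ⧸ I.map (algebraMap B C)) := ‹Nontrivial (C ⧸ I.map φ)›
  haveI : IsLocalRing (C ⧸ I.map (algebraMap B C)) := ‹IsLocalRing (C ⧸ I.map φ)›
  haveI : IsNoetherianRing (C ⧸ I.map (algebraMap B C)) := ‹IsNoetherianRing (C ⧸ I.map φ)›
  haveI : IsLocalHom (algebraMap (B ⧸ I) (C ⧸ I.map (algebraMap B C))) := by
    constructor
    intro b hb
    obtain ⟨b, rfl⟩ := Ideal.Quotient.mk_surjective b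
    have hb' : IsUnit (Ideal.Quotient.mk (I.map φ) (φ b)) := hb
    haveI : IsLocalHom (Ideal.Quotient.mk (I.map φ)) := IsLocalHom.of_surjective _ Ideal.Quotient.mk_surjective
    exact (isUnit_of_map_unit φ b (isUnit_of_map_unit _ _ hb')).map _
  show LocCoh.IsGorensteinLocalRing (C ⧸ I.map (algebraMap B C)) ↔
    LocCoh.IsGorensteinLocalRing (B ⧸ I) ∧ LocCoh.IsGorensteinLocalRing (C ⧸ (maximalIdeal B).map φ)
  rw [isGor_iff (B ⧸ I) (C ⧸ I.map (algebraMap B C))]
  refine and_congr_right fun _ => ?_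
  refine isGor_congr ?_
  have hmB : maximalIdeal (B ⧸ I) = (maximalIdeal B).map (Ideal.Quotient.mk I) :=
    (IsLocalRing.map_maximalIdeal_of_surjective _ Ideal.Quotient.mk_surjective).symm
  refine (Ideal.quotEquivOfEq (show (maximalIdeal (B ⧸ I)).map (algebraMap (B ⧸ I) (C ⧸ I.map (algebraMap B C))) =
    ((maximalIdeal B).map φ).map (Ideal.Quotient.mk (I.map φ)) from ?_)).trans
    (DoubleQuot.quotQuotEquivQuotOfLE (Ideal.map_mono hIm))
  rw [hmB]
  exact (Ideal.map_map (Ideal.Quotient.mk I) (algebraMap (B ⧸ I) (C ⧸ I.map (algebraMap B C)))).trans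
    (Ideal.map_map φ (Ideal.Quotient.mk (I.map φ))).symm

/-- Gorensteinness of the local rings of the fibres along a base change. -/
theorem isGor_fibre_iff (hc : IsPullback g' f' f g) [LocallyOfFiniteType g] (x' : X')
    (hN : IsLocallyNoetherian (f.fiber (g (f' x')))) :
    LocCoh.IsGorensteinLocalRing
        (↑(X'.presheaf.stalk x') ⧸ (maximalIdeal (T.presheaf.stalk (f' x'))).map (FibFlat.sm f' x' (f' x') rfl)) ↔
      LocCoh.IsGorensteinLocalRing
        (↑(X.presheaf.stalk (g' x')) ⧸
          (maximalIdeal (S.presheaf.stalk (f (g' x')))).map (FibFlat.sm f (g' x') (f (g' x')) rfl)) := by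
  have hy : f (g' x') = g (f' x') := by rw [← Scheme.Hom.comp_apply, hc.w, Scheme.Hom.comp_apply]
  have hI : LocCoh.IsGorensteinLocalRing
        (↑(X.presheaf.stalk (g' x')) ⧸
          (maximalIdeal (S.presheaf.stalk (f (g' x')))).map (FibFlat.sm f (g' x') (f (g' x')) rfl)) ↔
      LocCoh.IsGorensteinLocalRing
        (↑(X.presheaf.stalk (g' x')) ⧸
          (maximalIdeal (S.presheaf.stalk (g (f' x')))).map (FibFlat.sm f (g' x') (g (f' x')) hy)) :=
    isGor_congr (Ideal.quotEquivOfEq (FibFlat.map_max_sm f (g' x') _ hy))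
  rw [hI]
  obtain ⟨e, he, hι⟩ := ConsPropLib.exists_fibre_pullback hc (f' x')
  let z' := f'.asFiber x'
  have hz' : f'.fiberι (f' x') z' = x' := f'.fiberι_asFiber x'
  have hz : f.fiberι (g (f' x')) (e z') = g' x' := by
    rw [← Scheme.Hom.comp_apply, hι, Scheme.Hom.comp_apply, hz']
  obtain ⟨E'⟩ := Triage.CMMor.exists_equiv_fibre_stalk_aux f' x' (f' x') rfl z' hz'
  obtain ⟨E⟩ := Triage.CMMor.exists_equiv_fibre_stalk_aux f (g' x') (g (f' x')) hy (e z') hz
  haveI := Triage.CMBC.isNoetherianRing_fibre_stalk_of_isPullback hc x' hN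
  haveI : IsNoetherianRing ((f'.fiber (f' x')).presheaf.stalk z') := isNoetherianRing_of_ringEquiv _ E'
  rw [isGor_congr E', isGor_congr E]
  haveI : Flat e := by
    have h1 : Flat (Spec.map (g.residueFieldMap (f' x'))) := by
      rw [Flat.SpecMap_iff]
      let := (g.residueFieldMap (f' x')).hom.toAlgebra
      exact RingHom.flat_algebraMap_iff.2 inferInstance
    exact MorphismProperty.of_isPullback (P := (@Flat : MorphismProperty Scheme.{u})) he.flip h1
  letI : Algebra ((f.fiber (g (f' x'))).presheaf.stalk (e z')) ((f'.fiber (f' x')).presheaf.stalk z') :=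
    (e.stalkMap z').hom.toAlgebra
  haveI : IsLocalHom (algebraMap ((f.fiber (g (f' x'))).presheaf.stalk (e z')) ((f'.fiber (f' x')).presheaf.stalk z')) :=
    inferInstanceAs (IsLocalHom (e.stalkMap z').hom)
  haveI : Module.Flat ((f.fiber (g (f' x'))).presheaf.stalk (e z')) ((f'.fiber (f' x')).presheaf.stalk z') :=
    Flat.stalkMap e z'
  rw [isGor_iff ((f.fiber (g (f' x'))).presheaf.stalk (e z')) ((f'.fiber (f' x')).presheaf.stalk z')]
  refine ⟨And.left, fun h => ⟨h, ?_⟩⟩
  refine (isGor_congr (Triage.CMMor.exists_equiv_fibre_stalk e z').some).2 ?_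
  -- the fibre of `e` is the base change of a field extension
  let F := f.fiber (g (f' x'))
  let k := S.residueField (g (f' x'))
  obtain ⟨φ, hφ⟩ := Spec.map_surjective (F.fromSpecResidueField (e z') ≫ f.fiberToSpecResidueField (g (f' x')))
  letI : Field k := inferInstance
  letI : Algebra k (F.residueField (e z')) := φ.hom.toAlgebra
  letI : Algebra k (T.residueField (f' x')) := (g.residueFieldMap (f' x')).hom.toAlgebra
  haveI : Algebra.EssFiniteType k (T.residueField (f' x')) := Triage.CMBC.essFiniteType_residueFieldMap g (f' x')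
  refine isGor_stalk_of_field_pullback (k := k) (K := F.residueField (e z')) (L := T.residueField (f' x'))
    (a := pullback.snd e (F.fromSpecResidueField (e z')))
    (b := pullback.fst e (F.fromSpecResidueField (e z')) ≫ f'.fiberToSpecResidueField (f' x')) ?_ _
  show IsPullback _ _ (Spec.map φ) (Spec.map (g.residueFieldMap (f' x')))
  rw [hφ]
  exact (IsPullback.of_hasPullback e (F.fromSpecResidueField (e z'))).flip.paste_vert he

/-- Gorensteinness of the local rings of the fibres along an arbitrary base change. -/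
theorem isGor_fibre_iff_of_locallyOfFiniteType (hc : IsPullback g' f' f g) [LocallyOfFiniteType f] (x' : X') :
    LocCoh.IsGorensteinLocalRing
        (↑(X'.presheaf.stalk x') ⧸ (maximalIdeal (T.presheaf.stalk (f' x'))).map (FibFlat.sm f' x' (f' x') rfl)) ↔
      LocCoh.IsGorensteinLocalRing
        (↑(X.presheaf.stalk (g' x')) ⧸
          (maximalIdeal (S.presheaf.stalk (f (g' x')))).map (FibFlat.sm f (g' x') (f (g' x')) rfl)) := by
  haveI : LocallyOfFiniteType f' :=
    MorphismProperty.of_isPullback (P := @LocallyOfFiniteType) hc inferInstance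
  have hN : IsLocallyNoetherian (f.fiber (g (f' x'))) :=
    LocallyOfFiniteType.isLocallyNoetherian (f.fiberToSpecResidueField (g (f' x')))
  have hN' : IsLocallyNoetherian (f'.fiber (f' x')) :=
    LocallyOfFiniteType.isLocallyNoetherian (f'.fiberToSpecResidueField (f' x'))
  have hy : f (g' x') = g (f' x') := by rw [← Scheme.Hom.comp_apply, hc.w, Scheme.Hom.comp_apply]
  have hI : LocCoh.IsGorensteinLocalRing
        (↑(X.presheaf.stalk (g' x')) ⧸
          (maximalIdeal (S.presheaf.stalk (f (g' x')))).map (FibFlat.sm f (g' x') (f (g' x')) rfl)) ↔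
      LocCoh.IsGorensteinLocalRing
        (↑(X.presheaf.stalk (g' x')) ⧸
          (maximalIdeal (S.presheaf.stalk (g (f' x')))).map (FibFlat.sm f (g' x') (g (f' x')) hy)) :=
    isGor_congr (Ideal.quotEquivOfEq (FibFlat.map_max_sm f (g' x') _ hy))
  rw [hI]
  obtain ⟨e, he, hι⟩ := ConsPropLib.exists_fibre_pullback hc (f' x')
  let z' := f'.asFiber x'
  have hz' : f'.fiberι (f' x') z' = x' := f'.fiberι_asFiber x'
  have hz : f.fiberι (g (f' x')) (e z') = g' x' := by
    rw [← Scheme.Hom.comp_apply, hι, Scheme.Hom.comp_apply, hz']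
  obtain ⟨E'⟩ := Triage.CMMor.exists_equiv_fibre_stalk_aux f' x' (f' x') rfl z' hz'
  obtain ⟨E⟩ := Triage.CMMor.exists_equiv_fibre_stalk_aux f (g' x') (g (f' x')) hy (e z') hz
  rw [isGor_congr E', isGor_congr E]
  haveI : Flat e := by
    have h1 : Flat (Spec.map (g.residueFieldMap (f' x'))) := by
      rw [Flat.SpecMap_iff]
      let := (g.residueFieldMap (f' x')).hom.toAlgebra
      exact RingHom.flat_algebraMap_iff.2 inferInstance
    exact MorphismProperty.of_isPullback (P := (@Flat : MorphismProperty Scheme.{u})) he.flip h1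
  letI : Algebra ((f.fiber (g (f' x'))).presheaf.stalk (e z')) ((f'.fiber (f' x')).presheaf.stalk z') :=
    (e.stalkMap z').hom.toAlgebra
  haveI : IsLocalHom (algebraMap ((f.fiber (g (f' x'))).presheaf.stalk (e z')) ((f'.fiber (f' x')).presheaf.stalk z')) :=
    inferInstanceAs (IsLocalHom (e.stalkMap z').hom)
  haveI : Module.Flat ((f.fiber (g (f' x'))).presheaf.stalk (e z')) ((f'.fiber (f' x')).presheaf.stalk z') :=
    Flat.stalkMap e z'
  rw [isGor_iff ((f.fiber (g (f' x'))).presheaf.stalk (e z')) ((f'.fiber (f' x')).presheaf.stalk z')]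
  refine ⟨And.left, fun h => ⟨h, ?_⟩⟩
  refine (isGor_congr (Triage.CMMor.exists_equiv_fibre_stalk e z').some).2 ?_
  -- the fibre of `e` is the base change of a finitely generated field extension
  let F := f.fiber (g (f' x'))
  let k := S.residueField (g (f' x'))
  obtain ⟨φ, hφ⟩ := Spec.map_surjective (F.fromSpecResidueField (e z') ≫ f.fiberToSpecResidueField (g (f' x')))
  have hk : φ.hom.EssFiniteType :=
    CMBCAny.essFiniteType_of_fromSpecResidueField (Field.toIsField k) (f.fiberToSpecResidueField (g (f' x'))) (e z') φ hφ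
  letI : Field k := inferInstance
  letI : Algebra k (F.residueField (e z')) := φ.hom.toAlgebra
  letI : Algebra k (T.residueField (f' x')) := (g.residueFieldMap (f' x')).hom.toAlgebra
  haveI : Algebra.EssFiniteType k (F.residueField (e z')) := hk
  refine isGor_stalk_of_field_pullback' (k := k) (K := F.residueField (e z')) (L := T.residueField (f' x'))
    (a := pullback.snd e (F.fromSpecResidueField (e z')))
    (b := pullback.fst e (F.fromSpecResidueField (e z')) ≫ f'.fiberToSpecResidueField (f' x')) ?_ _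
  show IsPullback _ _ (Spec.map φ) (Spec.map (g.residueFieldMap (f' x')))
  rw [hφ]
  exact (IsPullback.of_hasPullback e (F.fromSpecResidueField (e z'))).flip.paste_vert he

/-- Gorenstein morphisms compose, and cancel along flat maps. -/
theorem comp_gorensteinAt {X Y Z : Scheme.{u}} (f : X ⟶ Y) (g : Y ⟶ Z) (x : X)
    (hfibf : ∀ y, IsLocallyNoetherian (f.fiber y)) (hfibg : ∀ y, IsLocallyNoetherian (g.fiber y))
    (hfibfg : ∀ z, IsLocallyNoetherian ((f ≫ g).fiber z)) :
    (Dual3.IsGorensteinAt f x → Dual3.IsGorensteinAt g (f x) → Dual3.IsGorensteinAt (f ≫ g) x) ∧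
      (Dual3.IsGorensteinAt (f ≫ g) x → (f.stalkMap x).hom.Flat →
        Dual3.IsGorensteinAt f x ∧ Dual3.IsGorensteinAt g (f x)) := by
  have hs : (f ≫ g) x = g (f x) := Scheme.Hom.comp_apply f g x
  constructor
  · intro hf hg
    rw [isGorensteinAt_iff_sm f x (f x) rfl] at hf
    rw [isGorensteinAt_iff_sm g (f x) (g (f x)) rfl] at hg
    haveI hNC := Triage.CMMor.isNoetherianRing_fibre_stalk_sm (f ≫ g) x (g (f x)) hs (hfibfg _)
    rw [isGorensteinAt_iff_sm (f ≫ g) x (g (f x)) hs]
    rw [FibFlat.sm_comp f g x (f x) (g (f x)) rfl rfl] at hNC ⊢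
    haveI := hg.2
    exact ⟨hg.1.comp hf.1, (fibre_comp _ _ hf.1).2 ⟨hg.2, hf.2⟩⟩
  · intro h hfl
    rw [isGorensteinAt_iff_sm (f ≫ g) x (g (f x)) hs,
      FibFlat.sm_comp f g x (f x) (g (f x)) rfl rfl] at h
    haveI := Triage.CMMor.isNoetherianRing_fibre_stalk_sm g (f x) (g (f x)) rfl (hfibg _)
    haveI := h.2
    have hfl' : (FibFlat.sm f x (f x) rfl).Flat := (FibFlat.sm_flat_iff f x (f x) rfl).2 hfl
    obtain ⟨hB, hC⟩ := (fibre_comp _ _ hfl').1 h.2
    exact ⟨(isGorensteinAt_iff_sm f x (f x) rfl).2 ⟨hfl', hC⟩,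
      (isGorensteinAt_iff_sm g (f x) (g (f x)) rfl).2
        ⟨Triage.CMMor.flat_of_comp _ _ hfl' h.1, hB⟩⟩

end Groth.Agent.Dual3Lib
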