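import Groth.Agent.Dual3Lib.GorTransfer
import Mathlib.RingTheory.Artinian.Ring
import Mathlib.RingTheory.Artinian.Instances

/-!
# Fibres over the spectrum of an Artinian local ring
-/

set_option linter.style.haveILetI false

universe u

open CategoryTheory CategoryTheory.Limits AlgebraicGeometry

namespace Groth.Agent.Dual3Lib

/-- The closed point of `Spec A`, through a field `K` receiving a surjection from `A`: the residue field
comparison is an isomorphism. -/
theorem isIso_descResidueField_of_surjective {A : CommRingCat.{u}} {K : Type u} [Field K]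
    (φ : A ⟶ CommRingCat.of K) (hφ : Function.Surjective φ.hom) :
    IsIso ((Spec A).descResidueField (Scheme.stalkClosedPointTo (Spec.map φ))) := by
  set y : PrimeSpectrum A := Spec.map φ (IsLocalRing.closedPoint K)
  have h := Scheme.descResidueField_stalkClosedPointTo_fromSpecResidueField K (Spec A) (Spec.map φ)
  rw [← Scheme.Spec.map_residueFieldIso_inv_eq_fromSpecResidueField A y, ← Spec.map_comp,
    ← Spec.map_comp, Spec.map_inj] at h
  have hsurj : Function.Surjective
      ((Spec A).descResidueField (Scheme.stalkClosedPointTo (Spec.map φ))).hom := fun t => by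
    obtain ⟨a, ha⟩ := hφ t
    refine ⟨((CommRingCat.ofHom (algebraMap A y.asIdeal.ResidueField)) ≫
      (Scheme.Spec.residueFieldIso A y).inv).hom a, ?_⟩
    exact (congrArg (fun m => m.hom a) h).trans ha
  exact (ConcreteCategory.isIso_iff_bijective _).2 ⟨RingHom.injective _, hsurj⟩

theorem isGorensteinMor_of_closedFibre {A : Type u} [CommRing A] [IsArtinianRing A] [IsLocalRing A]
    {P X : Scheme.{u}} (f : P ⟶ Spec (CommRingCat.of A)) [Flat f] (i : X ⟶ P)
    (q : X ⟶ Spec (CommRingCat.of (IsLocalRing.ResidueField A)))
    (hsq : IsPullback i q f (Spec.map (CommRingCat.ofHom (IsLocalRing.residue A))))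
    (hX : Dual3.IsGorenstein X) : Dual3.IsGorensteinMor f := by
  intro x
  refine ⟨Flat.stalkMap f x, ?_⟩
  let φ := CommRingCat.ofHom (IsLocalRing.residue A)
  haveI : Unique (Spec (CommRingCat.of A)) := inferInstanceAs (Unique (PrimeSpectrum A))
  have hy : Spec.map φ (IsLocalRing.closedPoint (IsLocalRing.ResidueField A)) = f x :=
    Subsingleton.elim _ _
  haveI := isIso_descResidueField_of_surjective φ IsLocalRing.residue_surjective
  have h := Scheme.descResidueField_stalkClosedPointTo_fromSpecResidueField
    (IsLocalRing.ResidueField A) _ (Spec.map φ)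
  rw [← Scheme.residueFieldCongr_fromSpecResidueField (X := Spec (CommRingCat.of A)) hy.symm,
    ← Category.assoc] at h
  haveI : IsIso (Spec.map ((Spec (CommRingCat.of A)).descResidueField
      (Scheme.stalkClosedPointTo (Spec.map φ))) ≫
      Spec.map ((Spec (CommRingCat.of A)).residueFieldCongr hy.symm).hom) := inferInstance
  let ψ := asIso (Spec.map ((Spec (CommRingCat.of A)).descResidueField
      (Scheme.stalkClosedPointTo (Spec.map φ))) ≫
      Spec.map ((Spec (CommRingCat.of A)).residueFieldCongr hy.symm).hom)
  have hsq' : IsPullback i (q ≫ ψ.hom) f ((Spec (CommRingCat.of A)).fromSpecResidueField (f x)) :=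
    hsq.of_iso (Iso.refl _) (Iso.refl _) ψ (Iso.refl _) (by simp) (by simp) (by simp)
      (by simp only [Iso.refl_hom, Category.comp_id]; exact h.symm)
  let e : f.fiber (f x) ⟶ X := hsq'.isoPullback.inv
  haveI : IsOpenImmersion e := inferInstanceAs (IsOpenImmersion hsq'.isoPullback.inv)
  exact (isGorensteinLocalRing_stalk_iff e (f.asFiber x)).2 (hX.2 _)

end Groth.Agent.Dual3Lib
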