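import Groth.Agent.QGorRing.OffV
import Groth.Agent.QGorRing.HasSkRestrict
import Groth.Agent.Synt29.SmoothProps

/-!
# The lowest cohomology of a dualizing complex
-/

set_option autoImplicit false
set_option linter.style.haveILetI false
set_option backward.isDefEq.respectTransparency false

universe u

open CategoryTheory CategoryTheory.Limits

attribute [local instance] HasDerivedCategory.standard

namespace Groth.Agent.Dual3Lib

open Groth.Agent.QGorRing Groth.Agent.KFlatLib

/-- Serre's conditions pass along semilinear equivalences. -/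
theorem hasSk_of_semilinear {R S : Type u} [CommRing R] [CommRing S] (σ : R ≃+* S) {M N : Type u}
    [AddCommGroup M] [Module R M] [AddCommGroup N] [Module S N] (e : M ≃+ N)
    (he : ∀ (r : R) (m : M), e (r • m) = σ r • e m) (k : ℕ) (h : LocCoh.HasSk k R M) :
    LocCoh.HasSk k S N := by
  letI : Algebra R S := σ.toRingHom.toAlgebra
  letI : Module R N := Module.compHom N σ.toRingHom
  haveI : IsScalarTower R S N := IsScalarTower.of_algebraMap_smul fun _ _ => rfl
  let l : M ≃ₗ[R] N := { e with map_smul' := he }
  exact hasSk_of_surjective' (P := R) (B := S) σ.surjective N k ((Synt29.SmoothProps.hasSk_congr l k).1 h)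

variable {A : Type u} [CommRing A] [IsNoetherianRing A] {ω : Dual.D A}

/-- The lowest degree is below the degree of every prime. -/
theorem le_degree_of_low {n : PrimeSpectrum A → ℤ} (h : IsDegree ω n) (c : ℤ)
    (hlow : ∀ i : ℤ, i < c → Subsingleton (Dual.HD A ω i)) (P : PrimeSpectrum A) : c ≤ n P := by
  obtain ⟨Q, hQP, hQ⟩ := exists_height_zero_le P
  have h1 := h.strictMono.monotone hQP
  by_contra hlt
  haveI := hlow (n Q) (by omega)
  exact Module.notMem_support_iff.2 inferInstance (mem_support_HD_minimal h Q hQ)

/-- The lowest cohomology of a dualizing complex satisfies `(S₂)`. -/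
theorem hasSk_two_of_low (hω : Dual.IsDualizing A ω) (c : ℤ)
    (hlow : ∀ i : ℤ, i < c → Subsingleton (Dual.HD A ω i)) : LocCoh.HasSk 2 A (Dual.HD A ω c) := by
  obtain ⟨n, h⟩ := exists_isDegree hω
  have hc := le_degree_of_low h c hlow
  intro p hp
  let q : PrimeSpectrum A := ⟨p, hp⟩
  haveI : Module.Finite A (Dual.HD A ω c) := hω.finite_cohomology c
  by_cases hq : q ∈ Module.support A (Dual.HD A ω c)
  swap
  · haveI : Subsingleton (LocalizedModule p.primeCompl (Dual.HD A ω c)) := Module.notMem_support_iff.1 hq
    exact (min_le_right _ _).trans (by rw [Module.supportDim_eq_bot_of_subsingleton]; exact bot_le)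
  obtain ⟨d, hd, -, Q, -, hQp, hQd, -⟩ := exists_supportDim_localized h _ q hq
  have hcQ := hc Q
  have key : ∀ rs : List A, RingTheory.Sequence.IsWeaklyRegular (Dual.HD A ω c) rs → (∀ r ∈ rs, r ∈ p) →
      (rs.length : ℕ∞) ≤ LocCoh.depth (Localization.AtPrime p) (LocalizedModule p.primeCompl (Dual.HD A ω c)) := by
    intro rs hreg hmem
    have h1 := hreg.of_isLocalizedModule (Localization.AtPrime p) p.primeCompl
      (LocalizedModule.mkLinearMap p.primeCompl (Dual.HD A ω c))
    have h2 := length_le_idealDepth (IsLocalRing.maximalIdeal _) _ h1 fun r hr => by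
      obtain ⟨a, ha, rfl⟩ := List.mem_map.1 hr
      exact (IsLocalization.AtPrime.to_map_mem_maximal_iff _ p a).2 (hmem a ha)
    simpa [LocCoh.depth] using h2
  rw [hd]
  rcases Nat.lt_or_ge d 1 with h0 | h1
  · obtain rfl : d = 0 := by omega
    exact (min_le_right _ _).trans (WithBot.coe_le_coe.2 zero_le)
  obtain ⟨x, hxp, hx⟩ := exists_mem_raising h p ⊥ c (fun P _ => hc P) fun P hP => by
    have := h.strictMono.monotone (show q ≤ P from hP)
    omega
  rcases Nat.lt_or_ge d 2 with h2 | h2
  · obtain rfl : d = 1 := by omega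
    refine (min_le_right _ _).trans ?_
    have := key [x] (isWeaklyRegular_singleton h c x fun P hxP => hx P bot_le hxP) (by simpa using hxp)
    exact WithBot.coe_le_coe.2 (by simpa using this)
  · obtain ⟨y, hyp, hy⟩ := exists_mem_raising h p (Ideal.span {x}) (c + 1)
      (fun P hP => hx P bot_le ((Ideal.span_singleton_le_iff_mem _).1 hP)) fun P hP => by
        have := h.strictMono.monotone (show q ≤ P from hP)
        omega
    refine (min_le_left _ _).trans ?_
    have := key [x, y] (isWeaklyRegular_pair h c x y (fun P hxP => hx P bot_le hxP)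
      fun P hxP hyP => by have := hy P ((Ideal.span_singleton_le_iff_mem _).2 hxP) hyP; omega) (by simp [hxp, hyp])
    exact WithBot.coe_le_coe.2 (by simpa using this)

/-- Over a domain the lowest cohomology of a dualizing complex is torsion-free. -/
theorem isTorsionFree_of_low [IsDomain A] (hω : Dual.IsDualizing A ω) (c : ℤ)
    (hlow : ∀ i : ℤ, i < c → Subsingleton (Dual.HD A ω i)) : Module.IsTorsionFree A (Dual.HD A ω c) := by
  obtain ⟨n, h⟩ := exists_isDegree hω
  have hc := le_degree_of_low h c hlow
  refine Module.isTorsionFree_iff_smul_eq_zero.2 fun a m ham => ?_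
  by_contra hne
  simp only [not_or] at hne
  obtain ⟨e⟩ := exists_homRingLEquiv ω c
  refine hne.2 (e.symm.injective ?_)
  rw [map_zero]
  refine smul_eq_zero_imp h A c a (fun P _ haP => ?_) _ (by rw [← map_smul, ham, map_zero])
  have h1 : (⟨⊥, Ideal.bot_prime⟩ : PrimeSpectrum A) < P := by
    refine lt_of_le_of_ne (show (⊥ : Ideal A) ≤ P.asIdeal from bot_le) fun he => hne.1 ?_
    rw [← he] at haP
    exact Ideal.mem_bot.1 haP
  have := h.strictMono h1
  have := hc ⟨⊥, Ideal.bot_prime⟩
  omega

end Groth.Agent.Dual3Lib
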