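import Groth.Agent.Dual3Lib.DualLocal
import Groth.Agent.KFlatLib.Ring.DualizingDepth
import Groth.Agent.KFlatLib.Ring.DualizingLocalExt
import Groth.Agent.KFlatLib.Ring.DualizingPoint
import Groth.Agent.S0368
import Groth.Agent.Triage.CMMor

/-!
# Dualizing complexes concentrated in one degree
-/

set_option linter.style.haveILetI false

universe u

open CategoryTheory CategoryTheory.Limits AlgebraicGeometry

attribute [local instance] HasDerivedCategory.standard

namespace Groth.Agent.Dual3Lib

open Groth.Agent.KFlatLib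

/-- Every dualizing complex of a local ring has a normalized shift. -/
theorem exists_normalized_shift {R : Type u} [CommRing R] [IsLocalRing R] [IsNoetherianRing R]
    {ω : Dual.D R} (hω : Dual.IsDualizing R ω) :
    ∃ n : ℤ, Dual.IsNormalized R (ω⟦n⟧) := by
  haveI := hasLTen R
  haveI := hasRHom (A := R)
  obtain ⟨n, hn, -⟩ := exists_unique_ext_point (IsLocalRing.maximalIdeal R) hω
  refine ⟨n, fun i hi => ?_⟩
  haveI := hn (n + i) (by omega)
  exact (Iso.homCongr (Iso.refl (Dual.inD R (R ⧸ IsLocalRing.maximalIdeal R)))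
    ((shiftFunctorAdd (Dual.D R) n i).app ω).symm).subsingleton

/-- A dualizing complex with cohomology in one degree forces Cohen–Macaulayness. -/
theorem isCohenMacaulayLocalRing_of_dualizing_single {R : Type u} [CommRing R] [IsLocalRing R]
    [IsNoetherianRing R] {ω : Dual.D R} (hω : Dual.IsDualizing R ω) (c : ℤ)
    (h : ∀ i : ℤ, i ≠ c → Subsingleton (Dual.HD R ω i)) :
    LocCoh.IsCohenMacaulayLocalRing R := by
  obtain ⟨n, hN⟩ := exists_normalized_shift hω
  have hω' := isDualizing_shift hω n
  obtain ⟨d, hd⟩ : ∃ d : ℕ, Module.supportDim R R = (d : WithBot ℕ∞) := by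
    obtain ⟨d, hd⟩ := ENat.ne_top_iff_exists.mp
      (Ideal.height_ne_top (I := IsLocalRing.maximalIdeal R) (IsLocalRing.maximalIdeal.isMaximal R).ne_top)
    refine ⟨d, ?_⟩
    rw [Module.supportDim_self_eq_ringKrullDim, ← IsLocalRing.maximalIdeal_height_eq_ringKrullDim, ← hd]
    rfl
  have hH : ∀ i : ℤ, i + n ≠ c → Subsingleton (Dual.inD R R ⟶ (ω⟦n⟧)⟦i⟧) := fun i hi => by
    obtain ⟨e⟩ := exists_homRingLEquiv (ω⟦n⟧) i
    haveI : Subsingleton (Dual.HD R (ω⟦n⟧) i) := by
      haveI : Subsingleton (((DerivedCategory.homologyFunctor (ModuleCat.{u} R) 0).shift (i + n)).obj ω) :=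
        h (i + n) hi
      exact ((((DerivedCategory.homologyFunctor (ModuleCat.{u} R) 0).shiftIso n i (i + n)
        (add_comm n i)).app ω).toLinearEquiv).injective.subsingleton
    exact e.injective.subsingleton
  have hnt := nontrivial_ext_neg_supportDim hω' hN R d hd
  have hdn : -(d : ℤ) + n = c := by
    by_contra hne
    haveI := hH _ hne
    exact not_subsingleton _ this
  exact { toIsNoetherian := ‹IsNoetherianRing R›, toIsLocalRing := ‹IsLocalRing R›
          supportDim_eq_depth := (Groth.Agent.S0368.result R (ω⟦n⟧) hω' hN R d hd).2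
            fun i hi => hH (-i) (by omega) }

/-- Localizing a cohomologically concentrated complex keeps it concentrated. -/
theorem subsingleton_HD_LBase {A B : Type u} [CommRing A] [CommRing B] [Algebra A B] [Module.Flat A B]
    [DTen.HasLBase (algebraMap A B)] (ω : Dual.D A) (i : ℤ) (h : Subsingleton (Dual.HD A ω i)) :
    Subsingleton (Dual.HD B ((DTen.LBase (algebraMap A B)).obj ω) i) := by
  obtain ⟨e⟩ := exists_hdLBaseLEquiv (B := B) ω i
  haveI := h
  exact e.injective.subsingleton

/-- If `M~` has no cohomology in a degree, neither has `M`. -/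
theorem subsingleton_HD_of_tildeD (A : Type u) [CommRing A]
    [PreservesFiniteLimits (tilde.functor (CommRingCat.of A))] (ω : Dual.D A) (i : ℤ)
    (h : IsZero (DCoh.HD ((DCoh.tildeD (CommRingCat.of A)).obj ω) i)) :
    Subsingleton (Dual.HD A ω i) := by
  haveI : (tilde.functor (CommRingCat.of A)).Additive := tilde_additive _
  haveI : PreservesFiniteColimits (tilde.functor (CommRingCat.of A)) := QCoh.tilde_preservesFiniteColimits
  have hz := h.of_iso ((mapDCHomologyIso (tilde.functor (CommRingCat.of A)) i).app ω).symm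
  refine ModuleCat.subsingleton_of_isZero ?_
  rw [IsZero.iff_id_eq_zero] at hz ⊢
  refine (tilde.fullyFaithfulFunctor (R := CommRingCat.of A)).map_injective ?_
  rw [CategoryTheory.Functor.map_id, CategoryTheory.Functor.map_zero]
  exact hz

/-- A scheme with a dualizing module is Cohen–Macaulay. -/
theorem isCohenMacaulayLocalRing_stalk_of_dualizing_module {X : Scheme.{u}}
    [∀ (U : Scheme.{u}) (j : U ⟶ X) [IsOpenImmersion j], PreservesFiniteLimits (Scheme.Modules.restrictFunctor j)]
    [∀ (R : CommRingCat.{u}), PreservesFiniteLimits (tilde.functor R)]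
    (ω : X.Modules) (hD : Dual2.IsDualizingSch X (DCoh.inD X ω)) (x : X) :
    LocCoh.IsCohenMacaulayLocalRing (X.presheaf.stalk x) := by
  obtain ⟨A, _, j, _, p, rfl⟩ := exists_chart X x
  revert p
  refine fun (p : PrimeSpectrum A) => ?_
  obtain ⟨w, hw, ⟨e⟩⟩ := hD A j
  haveI := hw.isNoetherianRing
  haveI := hasLBase (algebraMap A (Localization.AtPrime p.asIdeal))
  haveI : Module.Flat A (Localization.AtPrime p.asIdeal) := IsLocalization.flat _ p.asIdeal.primeCompl
  obtain ⟨es⟩ := nonempty_stalk_equiv j p
  refine Triage.CMMor.isCM_of_equiv es.symm ?_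
  refine isCohenMacaulayLocalRing_of_dualizing_single (isDualizing_LBase_atPrime hw p.asIdeal) 0
    fun i hi => subsingleton_HD_LBase w i (subsingleton_HD_of_tildeD A w i ?_)
  let c := ((Scheme.Modules.restrictFunctor j).mapDerivedCategorySingleFunctor 0).app ω
  have hz : IsZero ((DerivedCategory.homologyFunctor (Spec (CommRingCat.of A)).Modules i).obj
      ((DerivedCategory.singleFunctor (Spec (CommRingCat.of A)).Modules 0).obj
        ((Scheme.Modules.restrictFunctor j).obj ω))) := by
    rcases lt_or_gt_of_ne hi with h | h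
    · exact DerivedCategory.isZero_of_isGE _ 0 i h
    · exact DerivedCategory.isZero_of_isLE _ 0 i h
  exact hz.of_iso ((DerivedCategory.homologyFunctor _ i).mapIso (e.symm ≪≫ c))

end Groth.Agent.Dual3Lib
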