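import Groth.Agent.Dual3Lib.RestrictPull
import Groth.Agent.KFlatLib.Scheme.RHomLocal
import Groth.Agent.KFlatLib.Scheme.TildeD
import Groth.Agent.S1787
import Groth.Agent.S11177
import Groth.Agent.H9Misc.DRingLBase
import Groth.Prelude.Def_DualSch
import Mathlib.AlgebraicGeometry.Morphisms.Smooth
import Mathlib.AlgebraicGeometry.Noetherian

/-!
# Dualizing complexes on schemes: the property is local
-/

set_option linter.style.haveILetI false

universe u

open CategoryTheory CategoryTheory.Limits AlgebraicGeometry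

attribute [local instance] HasDerivedCategory.standard

namespace Groth.Agent.Dual3Lib

open Groth.Agent.KFlatLib

/-- Open immersions of affine schemes preserve dualizing complexes. -/
theorem isDualizing_LBaseChange_of_isOpenImmersion {A B : Type u} [CommRing A] [CommRing B]
    [IsNoetherianRing A] (φ : A →+* B) [IsOpenImmersion (Spec.map (CommRingCat.ofHom φ))]
    [DRing.HasLBaseChange φ] {ω : Dual.D A} (hω : Dual.IsDualizing A ω) :
    Dual.IsDualizing B ((DRing.LBaseChange φ).obj ω) := by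
  letI := φ.toAlgebra
  haveI : DRing.HasLBaseChange (algebraMap A B) := ‹DRing.HasLBaseChange φ›
  have h : φ.Smooth := (HasRingHomProperty.Spec_iff (P := @Smooth)).mp
    (inferInstance : Smooth (Spec.map (CommRingCat.ofHom φ)))
  haveI : Algebra.Smooth A B := h
  exact Groth.Agent.S11177.result A B ω hω

/-- Isomorphisms descend along `M ↦ M~`. -/
theorem nonempty_iso_of_tildeD (R : CommRingCat.{u}) [PreservesFiniteLimits (tilde.functor R)]
    {M N : DerivedCategory (ModuleCat.{u} R)} (e : (DCoh.tildeD R).obj M ≅ (DCoh.tildeD R).obj N) :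
    Nonempty (M ≅ N) := by
  haveI : (DCoh.tildeD R).Full := ⟨fun {M N} => (tildeD_map_bijective M N).2⟩
  haveI : (DCoh.tildeD R).Faithful := ⟨fun {M N} => fun {f g} h => (tildeD_map_bijective M N).1 h⟩
  exact ⟨(DCoh.tildeD R).preimageIso e⟩

variable {X : Scheme.{u}}
  [∀ (U : Scheme.{u}) (j : U ⟶ X) [IsOpenImmersion j], PreservesFiniteLimits (Scheme.Modules.restrictFunctor j)]
  [∀ (R : CommRingCat.{u}), PreservesFiniteLimits (tilde.functor R)]

/-- Being a dualizing complex can be checked on one affine open cover. -/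
theorem isDualizingSch_of_cover [IsLocallyNoetherian X] (K : DCoh.D X)
    (h : ∀ x : X, ∃ (A : Type u) (_ : CommRing A) (j : Spec (CommRingCat.of A) ⟶ X)
      (_ : IsOpenImmersion j) (ω : Dual.D A), x ∈ Set.range j.base ∧ Dual.IsDualizing A ω ∧
        Nonempty ((DCoh.restrictD j).obj K ≅ (DCoh.tildeD (CommRingCat.of A)).obj ω)) :
    Dual2.IsDualizingSch X K := by
  intro B _ jB hjB
  haveI : IsLocallyNoetherian (Spec (CommRingCat.of B)) :=
    isLocallyNoetherian_of_isOpenImmersion jB
  haveI : IsNoetherianRing Γ(Spec (CommRingCat.of B), ⊤) :=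
    IsLocallyNoetherian.component_noetherian ⟨⊤, isAffineOpen_top _⟩
  haveI : IsNoetherianRing B :=
    isNoetherianRing_of_ringEquiv Γ(Spec (CommRingCat.of B), ⊤)
      (Scheme.ΓSpecIso (CommRingCat.of B)).commRingCatIsoToRingEquiv
  have hK : DCoh.IsQCohD K := fun i => isQCoh_HD_of_local K i fun x => by
    obtain ⟨A, _, j, hj, ω, hx, -, ⟨e⟩⟩ := h x
    exact ⟨_, j, hj, hx, isQCoh_of_iso ((DerivedCategory.homologyFunctor _ i).mapIso e).symm
      (isQCohD_tildeD (R := CommRingCat.of A) ω i)⟩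
  obtain ⟨M, ⟨eM⟩⟩ := exists_tildeD_iso (R := CommRingCat.of B) (isQCohD_rho jB hK)
  have loc : ∀ p : PrimeSpectrum B, ∃ g : B, g ∉ p.asIdeal ∧
      ∃ _ : DRing.HasLBaseChange (algebraMap B (Localization.Away g)),
        Dual.IsDualizing (Localization.Away g)
          ((DRing.LBaseChange (algebraMap B (Localization.Away g))).obj M) := by
    intro p
    obtain ⟨A, _, j, hj, ω, hx, hω, ⟨e⟩⟩ := h (jB p)
    haveI := hω.isNoetherianRing
    obtain ⟨_, ⟨g, rfl⟩, hgp, hgV⟩ :=
      (PrimeSpectrum.isTopologicalBasis_basic_opens (R := B)).exists_subset_of_mem_open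
        (show p ∈ jB.base ⁻¹' Set.range j.base from hx)
        (j.isOpenEmbedding.isOpen_range.preimage jB.continuous)
    refine ⟨g, hgp, H9Misc.DRingLBase.hasLBaseChange _, ?_⟩
    let ι := Spec.map (CommRingCat.ofHom (algebraMap B (Localization.Away g)))
    haveI : IsOpenImmersion ι := IsOpenImmersion.of_isLocalization g
    have hr : Set.range (ι ≫ jB).base ⊆ Set.range j.base := by
      rintro _ ⟨q, rfl⟩
      have hq : ι q ∈ (PrimeSpectrum.basicOpen g : Set (PrimeSpectrum B)) := by
        rw [← PrimeSpectrum.localization_away_comap_range (Localization.Away g) g]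
        exact ⟨q, rfl⟩
      exact hgV hq
    let k := IsOpenImmersion.lift j (ι ≫ jB) hr
    have hk : k ≫ j = ι ≫ jB := IsOpenImmersion.lift_fac _ _ _
    haveI : IsOpenImmersion k := by
      haveI : IsOpenImmersion (k ≫ j) := by rw [hk]; infer_instance
      exact IsOpenImmersion.of_comp k j
    obtain ⟨φ₀, hφ⟩ := Spec.map_surjective k
    obtain ⟨φ, rfl⟩ : ∃ φ : A →+* Localization.Away g, CommRingCat.ofHom φ = φ₀ := ⟨φ₀.hom, rfl⟩
    haveI : IsOpenImmersion (Spec.map (CommRingCat.ofHom φ)) := hφ ▸ inferInstance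
    haveI := H9Misc.DRingLBase.hasLBaseChange φ
    haveI := H9Misc.DRingLBase.hasLBaseChange (algebraMap B (Localization.Away g))
    obtain ⟨c₁⟩ := nonempty_restrictD_comp (Spec.map (CommRingCat.ofHom φ)) j (ι ≫ jB)
      (by rw [hφ, hk]) K
    obtain ⟨c₂⟩ := nonempty_restrictD_comp ι jB (ι ≫ jB) rfl K
    obtain ⟨t₁⟩ := nonempty_restrictD_tildeD φ ω
    obtain ⟨t₂⟩ := nonempty_restrictD_tildeD (algebraMap B (Localization.Away g)) M
    obtain ⟨e'⟩ := nonempty_iso_of_tildeD (CommRingCat.of (Localization.Away g))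
      (t₂.symm ≪≫ (DCoh.restrictD ι).mapIso eM ≪≫ c₂.symm ≪≫ c₁ ≪≫
        (DCoh.restrictD _).mapIso e ≪≫ t₁)
    exact isDualizing_of_iso e'.symm (isDualizing_LBaseChange_of_isOpenImmersion φ hω)
  choose g hg hd using loc
  have htop : Ideal.span (Set.range g) = ⊤ := by
    by_contra hne
    obtain ⟨m, hm, hle⟩ := Ideal.exists_le_maximal _ hne
    exact hg ⟨m, hm.isPrime⟩ (hle (Ideal.subset_span ⟨_, rfl⟩))
  obtain ⟨t, ht, ht'⟩ : ∃ t : Finset B, (t : Set B) ⊆ Set.range g ∧ Ideal.span (t : Set B) = ⊤ := by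
    obtain ⟨t, ht, ht'⟩ := (Ideal.span_eq_top_iff_finite _).1 htop
    exact ⟨t, ht, ht'⟩
  refine ⟨M, Groth.Agent.S1787.result B t.card (fun i => (t.equivFin.symm i : B)) ?_ M fun i => ?_,
    ⟨eM.symm⟩⟩
  · rw [show Set.range (fun i => ((t.equivFin.symm i : {x // x ∈ t}) : B)) = (t : Set B) from ?_, ht']
    rw [show (fun i => ((t.equivFin.symm i : {x // x ∈ t}) : B)) = Subtype.val ∘ t.equivFin.symm from rfl,
      Set.range_comp, t.equivFin.symm.range_eq_univ, Set.image_univ, Subtype.range_coe_subtype]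
    rfl
  · obtain ⟨p, hp⟩ := ht (t.equivFin.symm i).2
    rw [← hp]
    exact hd p

end Groth.Agent.Dual3Lib
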