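import Groth.Agent.Dual3Lib.GorTransfer
import Groth.Agent.LC.GorRing
import Mathlib.AlgebraicGeometry.Noetherian
import Mathlib.RingTheory.Polynomial.Basic

/-!
# Gorenstein schemes and the rings of their affine opens
-/

set_option linter.style.haveILetI false
set_option backward.isDefEq.respectTransparency false

universe u

open CategoryTheory CategoryTheory.Limits AlgebraicGeometry

namespace Groth.Agent.Dual3Lib

/-- The local ring at a point of an affine chart is a localization of the chart ring. -/
theorem nonempty_stalk_equiv {X : Scheme.{u}} {A : Type u} [CommRing A]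
    (j : Spec (CommRingCat.of A) ⟶ X) [IsOpenImmersion j] (p : PrimeSpectrum A) :
    Nonempty (↑(X.presheaf.stalk (j p)) ≃+* Localization.AtPrime p.asIdeal) :=
  ⟨(asIso (j.stalkMap p)).commRingCatIsoToRingEquiv.trans
    (Spec.stalkIso (CommRingCat.of A) p).commRingCatIsoToRingEquiv⟩

/-- Gorenstein rings from Gorenstein local rings of an affine chart. -/
theorem isGorensteinRing_of_chart {X : Scheme.{u}} {A : Type u} [CommRing A] [IsNoetherianRing A]
    (j : Spec (CommRingCat.of A) ⟶ X) [IsOpenImmersion j]
    (h : ∀ x ∈ Set.range j.base, LocCoh.IsGorensteinLocalRing (X.presheaf.stalk x)) :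
    LocCoh.IsGorensteinRing A :=
  { toIsNoetherian := ‹IsNoetherianRing A›
    isGorensteinLocalRing_localization := fun p hp => by
      obtain ⟨e⟩ := nonempty_stalk_equiv j ⟨p, hp⟩
      exact isGorensteinLocalRing_of_ringEquiv e (h _ ⟨_, rfl⟩) }

/-- A scheme covered by spectra of Gorenstein rings is Gorenstein. -/
theorem isGorensteinLocalRing_stalk_of_chart {X : Scheme.{u}} {A : Type u} [CommRing A]
    [LocCoh.IsGorensteinRing A] (j : Spec (CommRingCat.of A) ⟶ X) [IsOpenImmersion j]
    (p : PrimeSpectrum A) : LocCoh.IsGorensteinLocalRing (X.presheaf.stalk (j p)) := by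
  obtain ⟨e⟩ := nonempty_stalk_equiv j p
  exact isGorensteinLocalRing_of_ringEquiv e.symm
    (LocCoh.IsGorensteinRing.isGorensteinLocalRing_localization p.asIdeal)

/-- The chart of an affine open through a point. -/
theorem exists_chart (X : Scheme.{u}) (x : X) : ∃ (A : Type u) (_ : CommRing A)
    (j : Spec (CommRingCat.of A) ⟶ X) (_ : IsOpenImmersion j), x ∈ Set.range j.base := by
  obtain ⟨U, hU, hxU, -⟩ := exists_isAffineOpen_mem_and_subset (X := X) (x := x) (U := ⊤) trivial
  exact ⟨Γ(X, U), inferInstance, hU.fromSpec, inferInstance, hU.range_fromSpec.symm ▸ hxU⟩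

/-- The ring of an affine chart of a locally Noetherian scheme is Noetherian. -/
theorem isNoetherianRing_chart {X : Scheme.{u}} [IsLocallyNoetherian X] {A : Type u} [CommRing A]
    (j : Spec (CommRingCat.of A) ⟶ X) [IsOpenImmersion j] : IsNoetherianRing A := by
  haveI : IsLocallyNoetherian (Spec (CommRingCat.of A)) := isLocallyNoetherian_of_isOpenImmersion j
  haveI : IsNoetherianRing Γ(Spec (CommRingCat.of A), ⊤) :=
    IsLocallyNoetherian.component_noetherian ⟨⊤, isAffineOpen_top _⟩
  exact isNoetherianRing_of_ringEquiv Γ(Spec (CommRingCat.of A), ⊤)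
    (Scheme.ΓSpecIso (CommRingCat.of A)).commRingCatIsoToRingEquiv

end Groth.Agent.Dual3Lib
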