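import Groth.Agent.Dual3Lib.SpreadShift
import Groth.Agent.Dual3Lib.DualSch
import Groth.Agent.Dual3Lib.GorScheme
import Groth.Agent.S0345
import Groth.Agent.S11179
import Groth.Agent.S1747
import Groth.Agent.S1775
import Groth.Agent.LC.GorDualizing
import Groth.Agent.KFlatLib.Ring.DualizingFibreRows
import Groth.Agent.KFlatLib.Scheme.LocalDevissage

/-!
# Dualizing complexes on schemes and Gorenstein local rings
-/

set_option linter.style.haveILetI false

universe u

open CategoryTheory CategoryTheory.Limits AlgebraicGeometry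

attribute [local instance] HasDerivedCategory.standard

namespace Groth.Agent.Dual3Lib

open Groth.Agent.KFlatLib

variable {X : Scheme.{u}}

/-- The structure sheaf in degree zero restricts to the structure sheaf in degree zero. -/
theorem nonempty_restrictD_inD_structure {U : Scheme.{u}} (j : U ⟶ X) [IsOpenImmersion j]
    [PreservesFiniteLimits (Scheme.Modules.restrictFunctor j)] :
    Nonempty ((DCoh.restrictD j).obj (DCoh.inD X (Coh.structureModule X)) ≅
      DCoh.inD U (Coh.structureModule U)) :=
  ⟨((Scheme.Modules.restrictFunctor j).mapDerivedCategorySingleFunctor 0).app _ ≪≫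
    (DerivedCategory.singleFunctor U.Modules 0).mapIso (restrictStructureIso j)⟩

/-- `A~` is the structure sheaf. -/
theorem nonempty_tildeD_inD_self (A : Type u) [CommRing A]
    [PreservesFiniteLimits (tilde.functor (CommRingCat.of A))] :
    Nonempty ((DCoh.tildeD (CommRingCat.of A)).obj (Dual.inD A A) ≅
      DCoh.inD (Spec (CommRingCat.of A)) (Coh.structureModule (Spec (CommRingCat.of A)))) :=
  haveI : (tilde.functor (CommRingCat.of A)).Additive := tilde_additive _
  haveI : PreservesFiniteColimits (tilde.functor (CommRingCat.of A)) := QCoh.tilde_preservesFiniteColimits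
  ⟨((tilde.functor (CommRingCat.of A)).mapDerivedCategorySingleFunctor 0).app _ ≪≫
    (DerivedCategory.singleFunctor (Spec (CommRingCat.of A)).Modules 0).mapIso (tildeSelf)⟩

/-- A finite-dimensional Gorenstein ring is its own dualizing complex. -/
theorem isDualizing_self_of_gorenstein (A : Type u) [CommRing A] [IsNoetherianRing A]
    (hA : LocCoh.IsGorensteinRing A) (hdim : ringKrullDim A < ⊤) :
    Dual.IsDualizing A (Dual.inD A A) := by
  obtain ⟨n, hn⟩ := (Groth.Agent.S0345.result A).2 ⟨hA, hdim⟩
  haveI := hn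
  exact LC.isDualizing_self_of_injDim A (n := n)

/-- Dualizing complexes localize. -/
theorem isDualizing_LBase_atPrime {A : Type u} [CommRing A] {ω : Dual.D A} (hω : Dual.IsDualizing A ω)
    (p : Ideal A) [p.IsPrime] [DTen.HasLBase (algebraMap A (Localization.AtPrime p))] :
    Dual.IsDualizing (Localization.AtPrime p)
      ((DTen.LBase (algebraMap A (Localization.AtPrime p))).obj ω) := by
  haveI := hω.isNoetherianRing
  haveI := H9Misc.DRingLBase.hasLBaseChange (algebraMap A (Localization.AtPrime p))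
  obtain ⟨e⟩ := nonempty_LBaseChange_iso (algebraMap A (Localization.AtPrime p))
  exact isDualizing_of_iso (e.app ω) (Groth.Agent.S1775.result A p.primeCompl ω hω)

/-- At a Gorenstein prime a dualizing complex is a shift of the ring. -/
theorem exists_shift_iso_of_gorenstein {A : Type u} [CommRing A] {ω : Dual.D A}
    (hω : Dual.IsDualizing A ω) (p : Ideal A) [p.IsPrime]
    [DTen.HasLBase (algebraMap A (Localization.AtPrime p))]
    (hp : LocCoh.IsGorensteinLocalRing (Localization.AtPrime p)) :
    ∃ n : ℤ, Nonempty ((DTen.LBase (algebraMap A (Localization.AtPrime p))).obj ω ≅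
      (Dual.inD (Localization.AtPrime p) (Localization.AtPrime p))⟦n⟧) := by
  haveI := hω.isNoetherianRing
  exact Groth.Agent.S1747.result (Localization.AtPrime p) _ _
    ((Groth.Agent.S11179.result _).1 hp) (isDualizing_LBase_atPrime hω p)

/-- A Noetherian local ring with a shift of itself dualizing is Gorenstein. -/
theorem gorenstein_of_shift_dualizing {R : Type u} [CommRing R] [IsLocalRing R] {n : ℤ}
    (h : Dual.IsDualizing R ((Dual.inD R R)⟦n⟧)) : LocCoh.IsGorensteinLocalRing R := by
  haveI := h.isNoetherianRing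
  exact (Groth.Agent.S11179.result R).2
    (isDualizing_of_iso ((shiftEquiv (Dual.D R) n).unitIso.app _).symm (isDualizing_shift h (-n)))

/-- A chart on which a dualizing complex is a shift of the structure sheaf consists of Gorenstein
points. -/
theorem gorenstein_of_iso_shift {A : Type u} [CommRing A] {ω : Dual.D A} (hω : Dual.IsDualizing A ω)
    (n : ℤ) (e : ω ≅ (Dual.inD A A)⟦n⟧) : LocCoh.IsGorensteinRing A := by
  haveI := hω.isNoetherianRing
  refine { toIsNoetherian := hω.isNoetherianRing, isGorensteinLocalRing_localization := fun p hp => ?_ }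
  haveI := hasLBase (algebraMap A (Localization.AtPrime p))
  haveI : Module.Flat A (Localization.AtPrime p) := IsLocalization.flat _ p.primeCompl
  obtain ⟨u⟩ := nonempty_LBase_inD_self (A := A) (B := Localization.AtPrime p)
  letI := (DTen.baseAdj (algebraMap A (Localization.AtPrime p))).leftAdjointCommShift ℤ
  exact gorenstein_of_shift_dualizing (isDualizing_of_iso
    ((DTen.LBase _).mapIso e ≪≫ ((DTen.LBase (algebraMap A (Localization.AtPrime p))).commShiftIso n).app _ ≪≫
      (shiftFunctor _ n).mapIso u) (isDualizing_LBase_atPrime hω p))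

variable
  [∀ (U : Scheme.{u}) (j : U ⟶ X) [IsOpenImmersion j], PreservesFiniteLimits (Scheme.Modules.restrictFunctor j)]
  [∀ (R : CommRingCat.{u}), PreservesFiniteLimits (tilde.functor R)]

/-- Around a Gorenstein point a dualizing complex is a shift of the structure sheaf. -/
theorem exists_chart_iso_shift {K : DCoh.D X} (hK : Dual2.IsDualizingSch X K) (x : X)
    (hx : LocCoh.IsGorensteinLocalRing (X.presheaf.stalk x)) :
    ∃ (B : Type u) (_ : CommRing B) (k : Spec (CommRingCat.of B) ⟶ X) (_ : IsOpenImmersion k)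
      (n : ℤ), x ∈ Set.range k.base ∧ LocCoh.IsGorensteinRing B ∧
        Nonempty ((DCoh.restrictD k).obj K ≅
          (DCoh.inD _ (Coh.structureModule (Spec (CommRingCat.of B))))⟦n⟧) := by
  obtain ⟨A, _, j, _, p, rfl⟩ := exists_chart X x
  revert p
  refine fun (p : PrimeSpectrum A) hx => ?_
  obtain ⟨ω, hω, ⟨e⟩⟩ := hK A j
  haveI := hω.isNoetherianRing
  haveI := hasLBase (algebraMap A (Localization.AtPrime p.asIdeal))
  obtain ⟨es⟩ := nonempty_stalk_equiv j p
  obtain ⟨n, ⟨en⟩⟩ := exists_shift_iso_of_gorenstein hω p.asIdeal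
    (isGorensteinLocalRing_of_ringEquiv es hx)
  obtain ⟨a, b, -, _, _⟩ := exists_bounds_of_isDualizing hω
  obtain ⟨g, hg, hgiso⟩ := exists_away_iso a b hω.finite_cohomology p.asIdeal n en
  let B := Localization.Away g
  haveI : Module.Flat A B := IsLocalization.flat B (Submonoid.powers g)
  haveI := hasLBase (algebraMap A B)
  haveI := H9Misc.DRingLBase.hasLBaseChange (algebraMap A B)
  obtain ⟨e'⟩ := hgiso
  obtain ⟨eb⟩ := nonempty_LBaseChange_iso (algebraMap A B)
  let ι := Spec.map (CommRingCat.ofHom (algebraMap A B))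
  haveI : IsOpenImmersion ι := IsOpenImmersion.of_isLocalization g
  have hωB : Dual.IsDualizing B ((DRing.LBaseChange (algebraMap A B)).obj ω) :=
    isDualizing_LBaseChange_of_isOpenImmersion _ hω
  obtain ⟨c⟩ := nonempty_restrictD_comp ι j (ι ≫ j) rfl K
  obtain ⟨t⟩ := nonempty_restrictD_tildeD (algebraMap A B) ω
  obtain ⟨s⟩ := nonempty_tildeD_inD_self B
  refine ⟨B, inferInstance, ι ≫ j, inferInstance, n, ?_,
    gorenstein_of_iso_shift hωB n (eb.app ω ≪≫ e'),
    ⟨c ≪≫ (DCoh.restrictD ι).mapIso e ≪≫ t ≪≫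
      (DCoh.tildeD (CommRingCat.of B)).mapIso (eb.app ω ≪≫ e') ≪≫
      ((DCoh.tildeD (CommRingCat.of B)).commShiftIso n).app _ ≪≫ (shiftFunctor _ n).mapIso s⟩⟩
  obtain ⟨q, hq⟩ : p ∈ Set.range (PrimeSpectrum.comap (algebraMap A B)) := by
    rw [PrimeSpectrum.localization_away_comap_range B g]; exact hg
  exact ⟨q, congrArg j hq⟩

/-- The Gorenstein locus of a scheme with a dualizing complex is open. -/
theorem isOpen_gorensteinLocus {K : DCoh.D X} (hK : Dual2.IsDualizingSch X K) :
    IsOpen {x : X | LocCoh.IsGorensteinLocalRing (X.presheaf.stalk x)} := by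
  refine isOpen_iff_forall_mem_open.2 fun x hx => ?_
  obtain ⟨B, _, k, _, n, hxk, hB, -⟩ := exists_chart_iso_shift hK x hx
  refine ⟨Set.range k.base, ?_, k.isOpenEmbedding.isOpen_range, hxk⟩
  rintro _ ⟨q, rfl⟩
  haveI := hB
  exact isGorensteinLocalRing_stalk_of_chart k q

/-- The structure sheaf of a Gorenstein scheme with a dualizing complex is dualizing. -/
theorem isDualizingSch_structure (hX : Dual3.IsGorenstein X) {K : DCoh.D X}
    (hK : Dual2.IsDualizingSch X K) : Dual2.IsDualizingSch X (DCoh.inD X (Coh.structureModule X)) := by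
  intro A _ j hj
  obtain ⟨ω, hω, -⟩ := hK A j
  haveI := hω.isNoetherianRing
  obtain ⟨e⟩ := nonempty_restrictD_inD_structure j
  obtain ⟨s⟩ := nonempty_tildeD_inD_self A
  exact ⟨_, isDualizing_self_of_gorenstein A (isGorensteinRing_of_chart j fun x _ => hX.2 x)
    (ringKrullDim_lt_top_of_isDualizing hω), ⟨e ≪≫ s.symm⟩⟩

/-- A scheme is Gorenstein exactly where its dualizing complex is invertible. -/
theorem isInvertibleD_iff [IsLocallyNoetherian X] {K : DCoh.D X} (hK : Dual2.IsDualizingSch X K) :
    Dual3.IsGorenstein X ↔ Dual3.IsInvertibleD K := by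
  constructor
  · intro hX x
    obtain ⟨B, _, k, _, n, hxk, -, ⟨e⟩⟩ := exists_chart_iso_shift hK x (hX.2 x)
    let U := k.opensRange
    let i : (U : Scheme.{u}) ⟶ Spec (CommRingCat.of B) := k.isoOpensRange.inv
    haveI : IsOpenImmersion i := inferInstanceAs (IsOpenImmersion k.isoOpensRange.inv)
    haveI : PreservesFiniteLimits (Scheme.Modules.restrictFunctor i) := preservesFiniteLimits_restrict i
    obtain ⟨c⟩ := nonempty_restrictD_comp i k U.ι (k.isoOpensRange_inv_comp) K
    obtain ⟨s⟩ := nonempty_restrictD_inD_structure i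
    exact ⟨U, n, hxk, ⟨c ≪≫ (DCoh.restrictD i).mapIso e ≪≫
      ((DCoh.restrictD i).commShiftIso n).app _ ≪≫ (shiftFunctor _ n).mapIso s⟩⟩
  · intro h
    refine ⟨inferInstance, fun x => ?_⟩
    obtain ⟨U, n, hxU, ⟨e⟩⟩ := h x
    obtain ⟨A, _, i, _, p, hp⟩ := exists_chart (U : Scheme.{u}) ⟨x, hxU⟩
    let j := i ≫ U.ι
    haveI : PreservesFiniteLimits (Scheme.Modules.restrictFunctor i) := preservesFiniteLimits_restrict i
    obtain ⟨ω, hω, ⟨eω⟩⟩ := hK A j
    obtain ⟨c⟩ := nonempty_restrictD_comp i U.ι j rfl K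
    obtain ⟨s⟩ := nonempty_restrictD_inD_structure i
    obtain ⟨s'⟩ := nonempty_tildeD_inD_self A
    obtain ⟨eA⟩ := nonempty_iso_of_tildeD (CommRingCat.of A) (M := ω) (N := (Dual.inD A A)⟦n⟧)
      (eω.symm ≪≫ c ≪≫ (DCoh.restrictD i).mapIso e ≪≫ ((DCoh.restrictD i).commShiftIso n).app _ ≪≫
        (shiftFunctor _ n).mapIso (s ≪≫ s'.symm) ≪≫
        (((DCoh.tildeD (CommRingCat.of A)).commShiftIso n).app _).symm)
    haveI := gorenstein_of_iso_shift hω n eA
    have hjp : j p = x := by
      show U.ι (i p) = x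
      rw [hp]; rfl
    exact hjp ▸ isGorensteinLocalRing_stalk_of_chart j p

end Groth.Agent.Dual3Lib
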