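import Groth.Agent.Dual3Lib.DualBottom
import Groth.Agent.Dual3Lib.DualCM
import Groth.Agent.AssLib.OpenRestrict
import Groth.Agent.Alg6.LocLoc

/-!
# Stalks of the cohomology of a dualizing complex on a scheme
-/

set_option autoImplicit false
set_option linter.style.haveILetI false
set_option backward.isDefEq.respectTransparency false
set_option backward.isDefEq.respectTransparency.types false

universe u

open CategoryTheory CategoryTheory.Limits AlgebraicGeometry

attribute [local instance] HasDerivedCategory.standard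

namespace Groth.Agent.Dual3Lib

open Groth.Agent.KFlatLib

/-- The localization of a module is the stalk of its tilde. -/
theorem exists_stalk_tilde (R : CommRingCat.{u}) (M : ModuleCat.{u} R) (p : PrimeSpectrum R) :
    ∃ (σ : Localization.AtPrime p.asIdeal ≃+* (Spec R).presheaf.stalk p)
      (e : LocalizedModule p.asIdeal.primeCompl M ≃+ ((tilde.functor R).obj M).presheaf.stalk p),
      ∀ r m, e (r • m) = σ r • e m := by
  let C := (Spec R).presheaf.stalk p
  letI : Algebra R C := StructureSheaf.stalkAlgebra R p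
  haveI : IsLocalization.AtPrime C p.asIdeal := StructureSheaf.IsLocalization.to_stalk R p
  haveI : IsScalarTower R C ((tilde M).presheaf.stalk p) := IsScalarTower.of_algebraMap_smul fun _ _ => rfl
  exact ⟨(IsLocalization.algEquiv p.asIdeal.primeCompl (Localization.AtPrime p.asIdeal) C).toRingEquiv,
    (IsLocalizedModule.iso p.asIdeal.primeCompl (tilde.toStalk M p).hom).toAddEquiv,
    Alg6.iso_semilinear p.asIdeal C (tilde.toStalk M p).hom⟩

variable {X : Scheme.{u}}
  [∀ (U : Scheme.{u}) (j : U ⟶ X) [IsOpenImmersion j], PreservesFiniteLimits (Scheme.Modules.restrictFunctor j)]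
  [∀ (R : CommRingCat.{u}), PreservesFiniteLimits (tilde.functor R)]

/-- The stalk of the lowest cohomology is the lowest cohomology over the local ring. -/
theorem exists_stalk_model (K : DCoh.D X) (hK : Dual2.IsDualizingSch X K) (n : ℤ)
    (hlt : ∀ i : ℤ, i < n → IsZero (DCoh.HD K i)) (x : X) :
    ∃ (B : Type u) (_ : CommRing B) (ω : Dual.D B) (σ : B ≃+* X.presheaf.stalk x)
      (e : Dual.HD B ω n ≃+ (DCoh.HD K n).presheaf.stalk x),
      Dual.IsDualizing B ω ∧ (∀ i : ℤ, i < n → Subsingleton (Dual.HD B ω i)) ∧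
        ∀ r m, e (r • m) = σ r • e m := by
  obtain ⟨A, _, j, _, p, rfl⟩ := exists_chart X x
  revert p
  refine fun (p : PrimeSpectrum A) => ?_
  obtain ⟨ω, hω, ⟨eK⟩⟩ := hK A j
  haveI := hω.isNoetherianRing
  haveI := hasLBase (algebraMap A (Localization.AtPrime p.asIdeal))
  haveI : Module.Flat A (Localization.AtPrime p.asIdeal) := IsLocalization.flat _ p.asIdeal.primeCompl
  haveI : (Scheme.Modules.restrictFunctor j).Additive := inferInstance
  haveI : (tilde.functor (CommRingCat.of A)).Additive := tilde_additive _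
  haveI : PreservesFiniteColimits (tilde.functor (CommRingCat.of A)) := QCoh.tilde_preservesFiniteColimits
  have iso : ∀ i : ℤ, (Scheme.Modules.restrictFunctor j).obj (DCoh.HD K i) ≅
      (tilde.functor (CommRingCat.of A)).obj ((DerivedCategory.homologyFunctor (ModuleCat.{u} A) i).obj ω) :=
    fun i => ((mapDCHomologyIso (Scheme.Modules.restrictFunctor j) i).app K).symm ≪≫
      (DerivedCategory.homologyFunctor _ i).mapIso eK ≪≫
        (mapDCHomologyIso (tilde.functor (CommRingCat.of A)) i).app ω
  have hzA : ∀ i : ℤ, i < n → Subsingleton (Dual.HD A ω i) := fun i hi =>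
    subsingleton_HD_of_tildeD A ω i ((((Scheme.Modules.restrictFunctor j).map_isZero (hlt i hi)).of_iso
      (iso i).symm).of_iso ((mapDCHomologyIso (tilde.functor (CommRingCat.of A)) i).app ω))
  let M := (DerivedCategory.homologyFunctor (ModuleCat.{u} A) n).obj ω
  obtain ⟨c⟩ := exists_hdLBaseLEquiv (B := Localization.AtPrime p.asIdeal) ω n
  obtain ⟨σ₁, e₁, he₁⟩ := exists_stalk_tilde (CommRingCat.of A) M p
  let z : ↥(Spec (CommRingCat.of A)) := p
  let L := CycLib.stalkLin (iso n).inv z
  have hL : Function.Bijective L := ConcreteCategory.bijective_of_isIso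
    ((TopCat.Presheaf.stalkFunctor Ab.{u} z).map
      ((Scheme.Modules.toPresheaf (Spec (CommRingCat.of A))).map (iso n).inv))
  obtain ⟨e₃, he₃⟩ := AssLib.exists_semilinear_restrict j (DCoh.HD K n) p
  let τ : X.presheaf.stalk (j p) ≃+* (Spec (CommRingCat.of A)).presheaf.stalk p :=
    (asIso (j.stalkMap p)).commRingCatIsoToRingEquiv
  let l : Dual.HD (Localization.AtPrime p.asIdeal) ((DTen.LBase (algebraMap A (Localization.AtPrime p.asIdeal))).obj ω) n
      ≃ₗ[Localization.AtPrime p.asIdeal] LocalizedModule p.asIdeal.primeCompl M :=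
    c.trans (LocalizedModule.equivTensorProduct p.asIdeal.primeCompl M).symm
  let L' := LinearEquiv.ofBijective L hL
  refine ⟨Localization.AtPrime p.asIdeal, inferInstance, _, σ₁.trans τ.symm,
    ((l.toAddEquiv.trans e₁).trans L'.toAddEquiv).trans e₃, isDualizing_LBase_atPrime hω p.asIdeal,
    fun i hi => subsingleton_HD_LBase ω i (hzA i hi), fun r m => ?_⟩
  show e₃ (L (e₁ (l (r • m)))) = τ.symm (σ₁ r) • e₃ (L (e₁ (l m)))
  rw [map_smul l, he₁, map_smul L, ← he₃]
  congr 1
  show σ₁ r • _ = τ (τ.symm (σ₁ r)) • _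
  rw [τ.apply_symm_apply]

/-- Torsion-freeness of the stalk of the lowest cohomology over an integral local ring. -/
theorem isTorsionFree_stalk (K : DCoh.D X) (hK : Dual2.IsDualizingSch X K) (n : ℤ)
    (hlt : ∀ i : ℤ, i < n → IsZero (DCoh.HD K i)) (x : X) [IsDomain (X.presheaf.stalk x)] :
    Module.IsTorsionFree (X.presheaf.stalk x) ((DCoh.HD K n).presheaf.stalk x) := by
  obtain ⟨B, _, ω, σ, e, hω, hlow, he⟩ := exists_stalk_model K hK n hlt x
  haveI : IsDomain B := σ.toMulEquiv.isDomain _
  haveI := hω.isNoetherianRing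
  haveI := isTorsionFree_of_low hω n hlow
  refine Module.isTorsionFree_iff_smul_eq_zero.2 fun a m ham => ?_
  obtain ⟨b, rfl⟩ := σ.surjective a
  obtain ⟨y, rfl⟩ := e.surjective m
  rw [← he, map_eq_zero_iff e e.injective, smul_eq_zero] at ham
  exact ham.imp (fun h => by rw [h, map_zero]) (fun h => by rw [h, map_zero])

/-- The stalks of the lowest cohomology satisfy `(S₂)`. -/
theorem hasSk_two_stalk (K : DCoh.D X) (hK : Dual2.IsDualizingSch X K) (n : ℤ)
    (hlt : ∀ i : ℤ, i < n → IsZero (DCoh.HD K i)) (x : X) :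
    LocCoh.HasSk 2 (X.presheaf.stalk x) ((DCoh.HD K n).presheaf.stalk x) := by
  obtain ⟨B, _, ω, σ, e, hω, hlow, he⟩ := exists_stalk_model K hK n hlt x
  haveI := hω.isNoetherianRing
  exact hasSk_of_semilinear σ e he 2 (hasSk_two_of_low hω n hlow)

/-- The stalks of the cohomology are finite. -/
theorem finite_stalk (K : DCoh.D X) (hK : Dual2.IsDualizingSch X K) (n : ℤ)
    (hlt : ∀ i : ℤ, i < n → IsZero (DCoh.HD K i)) (x : X) :
    Module.Finite (X.presheaf.stalk x) ((DCoh.HD K n).presheaf.stalk x) := by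
  obtain ⟨B, _, ω, σ, e, hω, -, he⟩ := exists_stalk_model K hK n hlt x
  haveI := hω.finite_cohomology n
  haveI : RingHomSurjective σ.toRingHom := ⟨σ.surjective⟩
  exact Module.Finite.of_surjective
    ({ toFun := e, map_add' := map_add e, map_smul' := he } :
      Dual.HD B ω n →ₛₗ[σ.toRingHom] (DCoh.HD K n).presheaf.stalk x) e.surjective

end Groth.Agent.Dual3Lib
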