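import Groth.Prelude.Def_Dual3

/-!
# Formal properties of the base-change maps of right adjoints on `D_QCoh`

Adjunction calculus for `Dual3.xi`, `Dual3.bcMap` and `Dual3.bcPush`.
-/

universe u

open CategoryTheory CategoryTheory.Limits AlgebraicGeometry

attribute [local instance] HasDerivedCategory.standard

namespace Groth.Agent.Dual3Lib

variable {X Y X' Y' : Scheme.{u}} {f : X ⟶ Y} {g : Y' ⟶ Y} {f' : X' ⟶ Y'} {g' : X' ⟶ X}
variable [DCoh.HasRpush f] [DCoh.HasRpush f'] [DCoh.HasRpush g] [DCoh.HasRpush g']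
variable {hf : DCoh.RpushPreservesQCoh f} {hf' : DCoh.RpushPreservesQCoh f'}
variable {hg : DCoh.RpushPreservesQCoh g} {hg' : DCoh.RpushPreservesQCoh g'}
variable {a : DCoh.DQCoh Y ⥤ DCoh.DQCoh X} {a' : DCoh.DQCoh Y' ⥤ DCoh.DQCoh X'}
variable (adj : DCoh.RpushQ f hf ⊣ a) (adj' : DCoh.RpushQ f' hf' ⊣ a')
  (e : DCoh.RpushQ g' hg' ⋙ DCoh.RpushQ f hf ≅ DCoh.RpushQ f' hf' ⋙ DCoh.RpushQ g hg)

/-- `ξ` is characterised by the counit of `Rf_* ⊣ a`. -/
lemma map_xi_counit (M : DCoh.DQCoh Y') :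
    (DCoh.RpushQ f hf).map (Dual3.xi adj adj' e M) ≫ adj.counit.app ((DCoh.RpushQ g hg).obj M) =
      e.hom.app (a'.obj M) ≫ (DCoh.RpushQ g hg).map (adj'.counit.app M) := by
  exact (adj.homEquiv_counit _ _ _).symm.trans ((adj.homEquiv _ _).symm_apply_apply _)

/-- Naturality of `ξ`. -/
lemma xi_natural {M N : DCoh.DQCoh Y'} (φ : M ⟶ N) :
    (DCoh.RpushQ g' hg').map (a'.map φ) ≫ Dual3.xi adj adj' e N =
      Dual3.xi adj adj' e M ≫ a.map ((DCoh.RpushQ g hg).map φ) := by
  simp only [Dual3.xi]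
  rw [← Adjunction.homEquiv_naturality_left, ← Adjunction.homEquiv_naturality_right]
  congr 1
  have h1 := e.hom.naturality (a'.map φ)
  simp only [Functor.comp_map] at h1
  rw [reassoc_of% h1, Category.assoc, ← Functor.map_comp, ← Functor.map_comp,
    adj'.counit_naturality]

variable [DCoh.HasLpull g] [DCoh.HasLpull g'] {hLg : Dual3.LpullPreservesQCoh g}
  {hLg' : Dual3.LpullPreservesQCoh g'}
  (adjg : Dual3.LpullQ g hLg ⊣ DCoh.RpushQ g hg) (adjg' : Dual3.LpullQ g' hLg' ⊣ DCoh.RpushQ g' hg')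

/-- The transpose of the base-change map under `Lg'^* ⊣ Rg'_*`. -/
lemma homEquiv_bcMap (K : DCoh.DQCoh Y)
    (hξ : IsIso (Dual3.xi adj adj' e ((Dual3.LpullQ g hLg).obj K))) :
    adjg'.homEquiv _ _ (Dual3.bcMap adj adj' e adjg adjg' K hξ) =
      a.map (adjg.unit.app K) ≫ inv (Dual3.xi adj adj' e ((Dual3.LpullQ g hLg).obj K)) := by
  rw [← Equiv.eq_symm_apply, Adjunction.homEquiv_counit, Functor.map_comp, Category.assoc]
  rfl

/-- The transpose of `β` under `Lg^* ⊣ Rg_*`. -/
lemma unit_map_bcPush (K : DCoh.DQCoh X) :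
    adjg.unit.app ((DCoh.RpushQ f hf).obj K) ≫
        (DCoh.RpushQ g hg).map (Dual3.bcPush e adjg adjg' K) =
      (DCoh.RpushQ f hf).map (adjg'.unit.app K) ≫ e.hom.app ((Dual3.LpullQ g' hLg').obj K) := by
  exact (adjg.homEquiv_unit _ _ _).symm.trans ((adjg.homEquiv _ _).apply_symm_apply _)

/-- Compatibility of the base-change maps with the traces. -/
theorem trace_bc (hξ : ∀ M : DCoh.DQCoh Y', IsIso (Dual3.xi adj adj' e M)) (K : DCoh.DQCoh Y) :
    Dual3.bcPush e adjg adjg' (a.obj K) ≫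
        (DCoh.RpushQ f' hf').map (Dual3.bcMap adj adj' e adjg adjg' K (hξ _)) ≫
          adj'.counit.app ((Dual3.LpullQ g hLg).obj K) =
      (Dual3.LpullQ g hLg).map (adj.counit.app K) := by
  haveI := hξ ((Dual3.LpullQ g hLg).obj K)
  apply (adjg.homEquiv _ _).injective
  rw [Adjunction.homEquiv_unit, Adjunction.homEquiv_unit, Functor.map_comp, Functor.map_comp,
    reassoc_of% (unit_map_bcPush e adjg adjg' (a.obj K))]
  have h1 := e.hom.naturality (Dual3.bcMap adj adj' e adjg adjg' K (hξ _))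
  simp only [Functor.comp_map] at h1
  rw [← reassoc_of% h1, ← map_xi_counit adj adj' e]
  simp only [← Functor.map_comp_assoc, Category.assoc]
  rw [show adjg'.unit.app (a.obj K) ≫
      (DCoh.RpushQ g' hg').map (Dual3.bcMap adj adj' e adjg adjg' K (hξ _)) ≫
        Dual3.xi adj adj' e ((Dual3.LpullQ g hLg).obj K) = a.map (adjg.unit.app K) by
    have h2 := (adjg'.homEquiv_unit _ _ (Dual3.bcMap adj adj' e adjg adjg' K (hξ _))).symm.trans
      (homEquiv_bcMap adj adj' e adjg adjg' K (hξ _))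
    rw [reassoc_of% h2, IsIso.inv_hom_id, Category.comp_id]]
  exact (adj.counit_naturality (adjg.unit.app K)).trans
    (adjg.unit_naturality (adj.counit.app K)).symm

/-- Compatibility of the base-change maps with the units. -/
theorem unit_bc (hξ : ∀ M : DCoh.DQCoh Y', IsIso (Dual3.xi adj adj' e M)) (M : DCoh.DQCoh X) :
    adj'.unit.app ((Dual3.LpullQ g' hLg').obj M) =
      (Dual3.LpullQ g' hLg').map (adj.unit.app M) ≫
        Dual3.bcMap adj adj' e adjg adjg' ((DCoh.RpushQ f hf).obj M) (hξ _) ≫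
          a'.map (Dual3.bcPush e adjg adjg' M) := by
  haveI := hξ ((Dual3.LpullQ g hLg).obj ((DCoh.RpushQ f hf).obj M))
  haveI := hξ ((DCoh.RpushQ f' hf').obj ((Dual3.LpullQ g' hLg').obj M))
  apply (adjg'.homEquiv _ _).injective
  rw [Adjunction.homEquiv_naturality_left, Adjunction.homEquiv_naturality_right]
  simp only [Functor.comp_obj, Functor.id_obj]
  rw [homEquiv_bcMap,
    ← cancel_mono (Dual3.xi adj adj' e ((DCoh.RpushQ f' hf').obj ((Dual3.LpullQ g' hLg').obj M)))]
  simp only [Category.assoc]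
  rw [xi_natural, IsIso.inv_hom_id_assoc, ← a.map_comp, unit_map_bcPush, a.map_comp,
    adj.unit_naturality_assoc, Adjunction.homEquiv_unit, Category.assoc]
  congr 1
  apply (adj.homEquiv _ _).symm.injective
  rw [Adjunction.homEquiv_counit, Adjunction.homEquiv_counit, Functor.map_comp, Category.assoc,
    map_xi_counit adj adj' e]
  have h1 := e.hom.naturality (adj'.unit.app ((Dual3.LpullQ g' hLg').obj M))
  simp only [Functor.comp_map] at h1
  rw [reassoc_of% h1, ← Functor.map_comp, adj'.left_triangle_components, CategoryTheory.Functor.map_id,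
    Category.comp_id, Functor.map_comp, Category.assoc, adj.counit_naturality,
    adj.left_triangle_components_assoc]

end Groth.Agent.Dual3Lib
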