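import Groth.Agent.CurvOpenLib.GorOpen
import Groth.Agent.CMOpen5.Chart
import Groth.Agent.FlatFibres.AffineDim
import Groth.Agent.S1386
import Groth.Agent.S2082
import Groth.Agent.FibDim.AffineSpaceFibre
import Groth.Agent.S7625

/-!
# Miracle flatness for morphisms to affine space over the base
-/

set_option autoImplicit false
set_option linter.style.haveILetI false
set_option backward.isDefEq.respectTransparency false
set_option backward.isDefEq.respectTransparency.types false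

universe u

open AlgebraicGeometry CategoryTheory CategoryTheory.Limits IsLocalRing

namespace Groth.Agent.Dual3Lib.GorAffine

open FibFlat

theorem ringKrullDim_fibre {X Y : Scheme.{u}} (f : X ⟶ Y) [LocallyOfFiniteType f] (x : X) (s : Y) (hs : f x = s) :
    ringKrullDim (↑(X.presheaf.stalk x) ⧸ (maximalIdeal (Y.presheaf.stalk s)).map (sm f x s hs)) =
      (DimFormula.fb f x : WithBot ℕ∞) := by
  subst hs
  rw [sm_self, ringKrullDim_eq_of_ringEquiv (Triage.CMMor.exists_equiv_fibre_stalk f x).some,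
    DimFormula.ringKrullDim_stalk_fibre]

theorem isRegular_fibre {X Y : Scheme.{u}} (f : X ⟶ Y) [Smooth f] (x : X) (s : Y) (hs : f x = s) :
    IsRegularLocalRing (↑(X.presheaf.stalk x) ⧸ (maximalIdeal (Y.presheaf.stalk s)).map (sm f x s hs)) := by
  subst hs
  haveI : Smooth (f.fiberToSpecResidueField (f x)) :=
    MorphismProperty.pullback_snd (P := @Smooth) f _ inferInstance
  haveI : IsRegularLocalRing ((f.fiber (f x)).presheaf.stalk (f.asFiber x)) :=
    SmoothReg.isRegularLocalRing_stalk_of_mem_smoothLocus (k := Y.residueField (f x))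
      (f.fiberToSpecResidueField (f x)) (by rw [Scheme.Hom.smoothLocus_eq_top]; trivial)
  rw [sm_self]
  exact IsRegularLocalRing.of_ringEquiv (Triage.CMMor.exists_equiv_fibre_stalk f x).some.symm

theorem fb_eq_zero {X Y : Scheme.{u}} (g : X ⟶ Y) [LocallyOfFiniteType g] [LocallyQuasiFinite g] (x : X) :
    DimFormula.fb g x = 0 := by
  have h := DimFormula.fibreDimAt_eq_add g x
  rw [AlgSpDec.fibreDimAt_eq_zero_of_lqf g x] at h
  have h' : FibDim.rd g x + DimFormula.fb g x = 0 := by exact_mod_cast h.symm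
  omega

/-- A quasi-finite map to affine `d`-space over the base is flat at a Cohen-Macaulay point of local fibre
dimension `d`. -/
theorem flat_of_lqf {U S : Scheme.{u}} {d : ℕ} (g : U ⟶ 𝔸(ULift.{u} (Fin d); S)) [LocallyQuasiFinite g]
    (f : U ⟶ S) (hf : g ≫ (𝔸(ULift.{u} (Fin d); S) ↘ S) = f) [LocallyOfFinitePresentation f] (x : U)
    (hcm : MoreMor.IsCMAt f x) (hd : FlatMor.fibreDimAt f x = (d : WithBot ℕ∞)) :
    (g.stalkMap x).hom.Flat := by
  subst hf
  set π := 𝔸(ULift.{u} (Fin d); S) ↘ S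
  haveI : Smooth π := Groth.Agent.S12182.smooth_affineSpace _ S
  haveI : LocallyOfFiniteType π := inferInstance
  haveI : LocallyOfFiniteType g := locallyOfFiniteType_of_comp g π
  refine (((Groth.Agent.S1386.result g π).1 x).1 ⟨hcm.1, (fiberMap_flat_iff g π x).2 ?_⟩).2
  rw [ff_iff g π x (g x) (π (g x)) rfl rfl, FFl]
  set ψ := sm π (g x) (π (g x)) rfl
  set φ := sm g x (g x) rfl
  set I := (maximalIdeal (S.presheaf.stalk (π (g x)))).map ψ
  haveI : IsLocalHom φ := isLocalHom_sm g x (g x) rfl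
  have hI : I ≤ maximalIdeal _ := map_maximalIdeal_le ψ
  have hJ : I.map φ = (maximalIdeal _).map (sm (g ≫ π) x (π (g x)) (Scheme.Hom.comp_apply _ _ _)) :=
    CMOpen5.map_map_sm g π _ rfl x (g x) _ rfl rfl _
  obtain ⟨-, hCM⟩ := (Triage.CMMor.isCMAt_iff_sm (g ≫ π) x (π (g x)) (Scheme.Hom.comp_apply _ _ _)).1 hcm
  rw [← hJ] at hCM
  haveI := isRegular_fibre π (g x) (π (g x)) rfl
  haveI : LocCoh.IsCohenMacaulayLocalRing (↑(U.presheaf.stalk x) ⧸ I.map φ) := hCM
  haveI : IsLocalHom (Ideal.Quotient.mk I) := IsLocalHom.of_surjective _ Ideal.Quotient.mk_surjective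
  haveI : IsLocalHom (Ideal.Quotient.mk (I.map φ)) := IsLocalHom.of_surjective _ Ideal.Quotient.mk_surjective
  letI : Algebra (↑((𝔸(ULift.{u} (Fin d); S)).presheaf.stalk (g x)) ⧸ I) (↑(U.presheaf.stalk x) ⧸ I.map φ) :=
    (Ideal.quotientMap (I.map φ) φ Ideal.le_comap_map).toAlgebra
  haveI : IsLocalHom (algebraMap (↑((𝔸(ULift.{u} (Fin d); S)).presheaf.stalk (g x)) ⧸ I)
      (↑(U.presheaf.stalk x) ⧸ I.map φ)) := by
    constructor
    intro y hy
    obtain ⟨y, rfl⟩ := Ideal.Quotient.mk_surjective y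
    exact (isUnit_of_map_unit φ y (isUnit_of_map_unit (Ideal.Quotient.mk (I.map φ)) _ hy)).map _
  refine @Groth.Agent.S2082.result _ _ _ _ (isRegular_fibre π (g x) (π (g x)) rfl) hCM _ _ ?_
  have hmA : (maximalIdeal (↑((𝔸(ULift.{u} (Fin d); S)).presheaf.stalk (g x)) ⧸ I)).map
      (algebraMap _ (↑(U.presheaf.stalk x) ⧸ I.map φ)) =
        ((maximalIdeal _).map φ).map (Ideal.Quotient.mk (I.map φ)) := by
    rw [← map_maximalIdeal_of_surjective (Ideal.Quotient.mk I) Ideal.Quotient.mk_surjective]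
    refine (Ideal.map_map _ _).trans (Eq.trans ?_ (Ideal.map_map _ _).symm)
    rfl
  have h0 : ringKrullDim ((↑(U.presheaf.stalk x) ⧸ I.map φ) ⧸
      (maximalIdeal (↑((𝔸(ULift.{u} (Fin d); S)).presheaf.stalk (g x)) ⧸ I)).map
        (algebraMap _ (↑(U.presheaf.stalk x) ⧸ I.map φ))) = 0 := by
    rw [ringKrullDim_eq_of_ringEquiv ((Ideal.quotEquivOfEq hmA).trans
      (DoubleQuot.quotQuotEquivQuotOfLE (Ideal.map_mono hI))), ringKrullDim_fibre g x (g x) rfl, fb_eq_zero]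
    norm_num
  rw [h0, add_zero, ringKrullDim_eq_of_ringEquiv (Ideal.quotEquivOfEq hJ), ringKrullDim_fibre (g ≫ π),
    ringKrullDim_fibre π (g x) _ rfl]
  have h1 := DimFormula.fibreDimAt_eq_add (g ≫ π) x
  have h2 := DimFormula.fibreDimAt_eq_add π (g x)
  rw [hd] at h1
  rw [FlatFibres.fibreDimAt_affineSpace] at h2
  have h1' : FibDim.rd (g ≫ π) x + DimFormula.fb (g ≫ π) x = d := by exact_mod_cast h1.symm
  have h2' : FibDim.rd π (g x) + DimFormula.fb π (g x) = d := by exact_mod_cast h2.symm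
  rw [CycLib.rd_comp, FibDim.rd_eq_zero_of_quasiFinite g x] at h1'
  exact_mod_cast (show DimFormula.fb (g ≫ π) x = DimFormula.fb π (g x) by omega)

variable {X S : Scheme.{u}} (f : X ⟶ S) [Flat f] [LocallyOfFinitePresentation f] {x : X} {d : ℕ}

omit [Flat f] in
theorem locallyOfFinitePresentation_chart {U : X.Opens} (g : (U : Scheme.{u}) ⟶ 𝔸(ULift.{u} (Fin d); S))
    (hg : g ≫ (𝔸(ULift.{u} (Fin d); S) ↘ S) = U.ι ≫ f) : LocallyOfFinitePresentation g := by
  haveI : LocallyOfFinitePresentation (g ≫ (𝔸(ULift.{u} (Fin d); S) ↘ S)) := by rw [hg]; infer_instance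
  exact AlgSpPts.locallyOfFinitePresentation_of_comp g (𝔸(ULift.{u} (Fin d); S) ↘ S)

omit [Flat f] in
/-- A chart Gorenstein at `x` shows that `f` is. -/
theorem gor_of_chart {U : X.Opens} (hx : x ∈ U) (g : (U : Scheme.{u}) ⟶ 𝔸(ULift.{u} (Fin d); S))
    (hg : g ≫ (𝔸(ULift.{u} (Fin d); S) ↘ S) = U.ι ≫ f) (h : Dual3.IsGorensteinAt g ⟨x, hx⟩) :
    Dual3.IsGorensteinAt f x := by
  haveI := locallyOfFinitePresentation_chart f g hg
  haveI : Smooth (𝔸(ULift.{u} (Fin d); S) ↘ S) := Groth.Agent.S12182.smooth_affineSpace _ S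
  have h' := (CurvOpenLib.Gor.postcomp g (𝔸(ULift.{u} (Fin d); S) ↘ S) ⟨x, hx⟩ h.1).2 h
  rw [hg] at h'
  exact (CurvOpenLib.Gor.precomp U.ι f ⟨x, hx⟩).1 h'

omit [Flat f] in
/-- Every quasi-finite chart is Gorenstein at `x` when `f` is. -/
theorem chart_of_gor (hd : FlatMor.fibreDimAt f x = (d : WithBot ℕ∞)) (h : Dual3.IsGorensteinAt f x) {U : X.Opens}
    (hx : x ∈ U) (g : (U : Scheme.{u}) ⟶ 𝔸(ULift.{u} (Fin d); S))
    (hg : g ≫ (𝔸(ULift.{u} (Fin d); S) ↘ S) = U.ι ≫ f) (hq : g.QuasiFiniteAt ⟨x, hx⟩) :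
    Dual3.IsGorensteinAt g ⟨x, hx⟩ := by
  haveI := locallyOfFinitePresentation_chart f g hg
  haveI : Smooth (𝔸(ULift.{u} (Fin d); S) ↘ S) := Groth.Agent.S12182.smooth_affineSpace _ S
  haveI : LocallyQuasiFinite (g.quasiFiniteLocus.ι ≫ g) := by
    rw [← Scheme.Hom.quasiFiniteLocus_eq_top_iff]
    exact top_le_iff.1 fun z _ => (Scheme.Hom.quasiFiniteAt_comp_iff_of_isOpenImmersion).2 z.2
  let z : (g.quasiFiniteLocus : Scheme.{u}) := ⟨⟨x, hx⟩, hq⟩
  have hf' : (g.quasiFiniteLocus.ι ≫ g) ≫ (𝔸(ULift.{u} (Fin d); S) ↘ S) = (g.quasiFiniteLocus.ι ≫ U.ι) ≫ f := by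
    rw [Category.assoc, hg, Category.assoc]
  have hgor := (CurvOpenLib.Gor.precomp (g.quasiFiniteLocus.ι ≫ U.ι) f z).2 (by exact h)
  have hflat := flat_of_lqf (g.quasiFiniteLocus.ι ≫ g) _ hf' z (CurvOpenLib.Gor.cm_of_gorensteinAt _ z hgor)
    ((FibDim.fibreDimAt_openImmersion_comp (g.quasiFiniteLocus.ι ≫ U.ι) f z).trans hd)
  rw [← hf'] at hgor
  exact (CurvOpenLib.Gor.precomp g.quasiFiniteLocus.ι g z).1
    ((CurvOpenLib.Gor.postcomp _ (𝔸(ULift.{u} (Fin d); S) ↘ S) z hflat).1 hgor)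

omit [Flat f] in
theorem exists_chart (hd : FlatMor.fibreDimAt f x = (d : WithBot ℕ∞)) :
    ∃ (U : X.Opens) (_ : x ∈ U) (g : (U : Scheme.{u}) ⟶ 𝔸(ULift.{u} (Fin d); S)),
      g ≫ (𝔸(ULift.{u} (Fin d); S) ↘ S) = U.ι ≫ f ∧ LocallyQuasiFinite g := by
  obtain ⟨V, hV, hxV, -⟩ := exists_isAffineOpen_mem_and_subset (U := (⊤ : S.Opens)) (x := f x) trivial
  obtain ⟨U, -, hxU, g, π, hg, hπ, hqf, -⟩ := Groth.Agent.S7625.result f x V hV hxV d hd
  haveI : IsOpenImmersion (AffineSpace.map (ULift.{u} (Fin d)) V.ι) :=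
    MorphismProperty.of_isPullback (P := @IsOpenImmersion) (AffineSpace.isPullback_map V.ι).flip inferInstance
  refine ⟨U, hxU, π ≫ AffineSpace.map _ V.ι, ?_, inferInstance⟩
  rw [Category.assoc, AffineSpace.map_over, ← Category.assoc, hπ, hg]

end Groth.Agent.Dual3Lib.GorAffine
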