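import Groth.Agent.Dual3Lib.GorMor
import Groth.Agent.Dual3Lib.GorScheme
import Groth.Agent.S1830

/-!
# Gorenstein morphisms on affine charts
-/

set_option linter.style.haveILetI false
set_option backward.isDefEq.respectTransparency false

universe u

open AlgebraicGeometry CategoryTheory CategoryTheory.Limits IsLocalRing TensorProduct

namespace Groth.Agent.Dual3Lib

open Groth.Agent

variable {X Y : Scheme.{u}}

/-- An open immersion is a Gorenstein morphism. -/
theorem isGorensteinAt_of_isOpenImmersion (j : X ⟶ Y) [IsOpenImmersion j] (x : X) :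
    Dual3.IsGorensteinAt j x := by
  refine ⟨Flat.stalkMap j x, ?_⟩
  refine (isGor_congr (Triage.CMMor.exists_equiv_fibre_stalk j x).some).1 ?_
  have hm : (maximalIdeal (Y.presheaf.stalk (j x))).map (j.stalkMap x).hom =
      maximalIdeal (X.presheaf.stalk x) := by
    refine IsLocalRing.map_maximalIdeal_of_surjective _ ?_
    exact (ConcreteCategory.bijective_of_isIso (j.stalkMap x)).2
  rw [hm]
  haveI : (maximalIdeal (X.presheaf.stalk x)).IsMaximal := inferInstance
  letI := Ideal.Quotient.field (maximalIdeal (X.presheaf.stalk x))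
  exact isGorensteinLocalRing_field _

variable {A B : Type u} [CommRing A] [CommRing B] (φ : A →+* B)

/-- Gorenstein fibres of a flat map on spectra, from the morphism. -/
theorem gorensteinRing_fiber [IsNoetherianRing A] [IsNoetherianRing B] (hft : φ.FiniteType)
    (h : Dual3.IsGorensteinMor (Spec.map (CommRingCat.ofHom φ))) (p : Ideal A) [hp : p.IsPrime] :
    letI := φ.toAlgebra
    LocCoh.IsGorensteinRing (p.Fiber B) := by
  letI := φ.toAlgebra
  let f := Spec.map (CommRingCat.ofHom (algebraMap A B))
  let P : PrimeSpectrum A := ⟨p, hp⟩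
  let e := (Arrow.leftFunc).mapIso (Spec.fiberToSpecResidueFieldIso A B P)
  haveI : IsNoetherianRing (p.Fiber B) := by
    haveI : Algebra.FiniteType A B := hft
    exact Algebra.FiniteType.isNoetherianRing p.ResidueField (p.Fiber B)
  let j : Spec (CommRingCat.of (P.asIdeal.Fiber B)) ⟶ f.fiber P := e.inv
  haveI : IsOpenImmersion j := inferInstanceAs (IsOpenImmersion e.inv)
  refine isGorensteinRing_of_chart j ?_
  rintro w -
  have key : ∀ (P : PrimeSpectrum A) (w : f.fiber P),
      LocCoh.IsGorensteinLocalRing ((f.fiber P).presheaf.stalk w) := by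
    intro P w
    obtain ⟨x, hx⟩ : ∃ x, f.fiberι P w = x := ⟨_, rfl⟩
    obtain rfl : f x = P := by
      rw [← hx]
      exact (f.range_fiberι P).le ⟨w, rfl⟩
    obtain rfl : w = f.asFiber x :=
      (f.fiberι (f x)).isEmbedding.injective (by rw [hx, f.fiberι_asFiber])
    exact (h x).2
  exact key P w

/-- A chart of a morphism which is Gorenstein is Gorenstein. -/
theorem isGorensteinMor_chart {f : X ⟶ Y} [IsLocallyNoetherian Y] [LocallyOfFiniteType f]
    {U V : Scheme.{u}} (i : U ⟶ X) (k : V ⟶ Y) [IsOpenImmersion i] [IsOpenImmersion k]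
    (g : U ⟶ V) (hg : g ≫ k = i ≫ f) (hf : Dual3.IsGorensteinMor f) : Dual3.IsGorensteinMor g := by
  intro u
  have hN : ∀ {S T : Scheme.{u}} (q : S ⟶ T) [LocallyOfFiniteType q] (t : T),
      IsLocallyNoetherian (q.fiber t) := fun q _ t =>
    LocallyOfFiniteType.isLocallyNoetherian (q.fiberToSpecResidueField t)
  haveI : LocallyOfFiniteType (g ≫ k) := by rw [hg]; infer_instance
  haveI : LocallyOfFiniteType g := locallyOfFiniteType_of_comp g k
  have hflat : ∀ u, (g.stalkMap u).hom.Flat := by
    intro u
    have h1 : ((g ≫ k).stalkMap u).hom.Flat := by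
      have h2 : ((i ≫ f).stalkMap u).hom.Flat := by
        rw [Scheme.Hom.stalkMap_comp, CommRingCat.hom_comp]
        exact RingHom.Flat.comp (hf (i u)).1 (Flat.stalkMap i u)
      rw [← FibFlat.sm_flat_iff _ u ((i ≫ f) u) rfl] at h2
      rw [← FibFlat.sm_flat_iff _ u ((i ≫ f) u) (by rw [hg])]
      rwa [FibFlat.sm_congr hg u ((i ≫ f) u) (by rw [hg])]
    rw [Scheme.Hom.stalkMap_comp, CommRingCat.hom_comp] at h1
    have h3 : Function.Bijective (k.stalkMap (g u)).hom := ConcreteCategory.bijective_of_isIso _
    have h4 : (g.stalkMap u).hom =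
        ((g.stalkMap u).hom.comp (k.stalkMap (g u)).hom).comp
          (RingEquiv.ofBijective _ h3).symm.toRingHom := by
      refine RingHom.ext fun z => ?_
      exact congrArg _ ((RingEquiv.ofBijective _ h3).apply_symm_apply z).symm
    rw [h4]
    exact RingHom.Flat.comp (RingHom.Flat.of_bijective (RingEquiv.ofBijective _ h3).symm.bijective) h1
  have h := (Groth.Agent.Dual3Lib.comp_gorensteinAt i f u (hN i) (hN f) (hN (i ≫ f))).1
    (isGorensteinAt_of_isOpenImmersion i u) (hf (i u))
  rw [← hg] at h
  exact ((comp_gorensteinAt g k u (hN g) (hN k) (hN (g ≫ k))).2 h (hflat u)).1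

end Groth.Agent.Dual3Lib
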