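import Groth.Agent.Dual3Lib.GorChart
import Groth.Agent.Dual3Lib.DualLocal
import Mathlib.AlgebraicGeometry.Morphisms.UniversallyOpen
import Mathlib.AlgebraicGeometry.Morphisms.Descent

/-!
# Derived pullback of dualizing complexes along Gorenstein morphisms
-/

set_option linter.style.haveILetI false

universe u

open CategoryTheory CategoryTheory.Limits AlgebraicGeometry

attribute [local instance] HasDerivedCategory.standard

namespace Groth.Agent.Dual3Lib

open Groth.Agent.KFlatLib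

variable {X Y : Scheme.{u}}

/-- Affine charts of a morphism. -/
theorem exists_chart_hom (f : X ⟶ Y) {A : Type u} [CommRing A]
    (j : Spec (CommRingCat.of A) ⟶ Y) [IsOpenImmersion j] (x : X) (hx : f x ∈ Set.range j.base) :
    ∃ (B : Type u) (_ : CommRing B) (k : Spec (CommRingCat.of B) ⟶ X) (_ : IsOpenImmersion k)
      (φ : A →+* B), x ∈ Set.range k.base ∧ Spec.map (CommRingCat.ofHom φ) ≫ j = k ≫ f := by
  obtain ⟨U, hU, hxU, hUf⟩ := exists_isAffineOpen_mem_and_subset (X := X) (x := x)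
    (U := f ⁻¹ᵁ j.opensRange) hx
  have hr : Set.range (hU.fromSpec ≫ f).base ⊆ Set.range j.base := by
    rintro _ ⟨q, rfl⟩
    exact hUf (hU.range_fromSpec.le ⟨q, rfl⟩)
  obtain ⟨φ, hφ⟩ := Spec.map_surjective (IsOpenImmersion.lift j (hU.fromSpec ≫ f) hr)
  refine ⟨Γ(X, U), inferInstance, hU.fromSpec, inferInstance, φ.hom,
    hU.range_fromSpec.symm ▸ hxU, ?_⟩
  rw [CommRingCat.ofHom_hom, hφ, IsOpenImmersion.lift_fac]

/-- A morphism which is a local complete intersection and flat is Gorenstein. -/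
theorem locallyOfFiniteType_of_isLCIMor {f : X ⟶ Y} (hf : Dual3.IsLCIMor f) :
    LocallyOfFiniteType f := by
  refine (HasRingHomProperty.iff_exists_appLE (P := @LocallyOfFiniteType)
    (RingHom.finiteType_stableUnderComposition.stableUnderCompositionWithLocalizationAway
      RingHom.finiteType_holdsForLocalizationAway).left).2 fun x => ?_
  obtain ⟨U, V, e, hxU, hl⟩ := hf x
  exact ⟨V, U, hxU, e, hl.1⟩

variable {A B : Type u} [CommRing A] [CommRing B]

/-- `Lf^*` on charts is base change. -/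
theorem nonempty_restrictD_Lpull_tilde (f : X ⟶ Y) [DCoh.HasLpull f] (φ : A →+* B)
    [PreservesFiniteLimits (tilde.functor (CommRingCat.of A))]
    [PreservesFiniteLimits (tilde.functor (CommRingCat.of B))]
    (j : Spec (CommRingCat.of A) ⟶ Y) [IsOpenImmersion j]
    [PreservesFiniteLimits (Scheme.Modules.restrictFunctor j)]
    (k : Spec (CommRingCat.of B) ⟶ X) [IsOpenImmersion k]
    [PreservesFiniteLimits (Scheme.Modules.restrictFunctor k)]
    (h : Spec.map (CommRingCat.ofHom φ) ≫ j = k ≫ f) [DRing.HasLBaseChange φ] (K : DCoh.D Y)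
    (ω : Dual.D A) (e : (DCoh.restrictD j).obj K ≅ (DCoh.tildeD (CommRingCat.of A)).obj ω) :
    Nonempty ((DCoh.restrictD k).obj ((DCoh.Lpull f).obj K) ≅
      (DCoh.tildeD (CommRingCat.of B)).obj ((DRing.LBaseChange φ).obj ω)) := by
  let g := Spec.map (CommRingCat.ofHom φ)
  haveI := hasLpull g
  haveI := hasLpull j
  haveI := hasLpull k
  haveI := hasLpull (k ≫ f)
  haveI := hasLpull (g ≫ j)
  obtain ⟨r₁⟩ := nonempty_lpull_obj_iso k ((DCoh.Lpull f).obj K)
  obtain ⟨r₂⟩ := nonempty_lpull_obj_iso j K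
  obtain ⟨c₁⟩ := nonempty_lpull_comp k f
  obtain ⟨c₂⟩ := nonempty_lpull_comp g j
  obtain ⟨t⟩ := nonempty_tildeD_lpull_iso φ
  have hc : Nonempty ((DCoh.Lpull (k ≫ f)).obj K ≅ (DCoh.Lpull (g ≫ j)).obj K) := by
    revert c₁
    generalize hkf : k ≫ f = m at *
    intro _
    subst h
    exact ⟨Iso.refl _⟩
  obtain ⟨c⟩ := hc
  exact ⟨r₁.symm ≪≫ c₁.app K ≪≫ c ≪≫ (c₂.app K).symm ≪≫ (DCoh.Lpull g).mapIso (r₂ ≪≫ e) ≪≫
    (t.app ω).symm⟩

section Rows

variable [IsLocallyNoetherian Y] (f : X ⟶ Y) [Flat f] [LocallyOfFiniteType f]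
  (hf : Dual3.IsGorensteinMor f) [DCoh.HasLpull f]

include hf

/-- The chart of a Gorenstein morphism has the algebraic properties needed. -/
theorem chart_algebra (φ : A →+* B) (j : Spec (CommRingCat.of A) ⟶ Y) [IsOpenImmersion j]
    (k : Spec (CommRingCat.of B) ⟶ X) [IsOpenImmersion k]
    (h : Spec.map (CommRingCat.ofHom φ) ≫ j = k ≫ f) :
    φ.FiniteType ∧ φ.Flat ∧ IsNoetherianRing A ∧ IsNoetherianRing B ∧
      letI := φ.toAlgebra
      ∀ (p : Ideal A) [p.IsPrime], LocCoh.IsGorensteinRing (p.Fiber B) := by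
  haveI : LocallyOfFiniteType (Spec.map (CommRingCat.ofHom φ) ≫ j) := by rw [h]; infer_instance
  have hft : LocallyOfFiniteType (Spec.map (CommRingCat.ofHom φ)) := locallyOfFiniteType_of_comp _ j
  have hft' : φ.FiniteType := (HasRingHomProperty.Spec_iff (P := @LocallyOfFiniteType)).1 hft
  have hA : IsNoetherianRing A := isNoetherianRing_chart j
  haveI : IsLocallyNoetherian X := LocallyOfFiniteType.isLocallyNoetherian f
  have hB : IsNoetherianRing B := isNoetherianRing_chart k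
  have hg := isGorensteinMor_chart k j _ h hf
  refine ⟨hft', ?_, hA, hB, fun p _ => gorensteinRing_fiber φ hft' hg p⟩
  exact Flat.SpecMap_iff.1 ((Flat.iff_flat_stalkMap _).2 fun q => (hg q).1)

variable
  [∀ (U V : Scheme.{u}) (j : U ⟶ V) [IsOpenImmersion j], PreservesFiniteLimits (Scheme.Modules.restrictFunctor j)]
  [∀ (R : CommRingCat.{u}), PreservesFiniteLimits (tilde.functor R)]

/-- Gorenstein morphisms preserve dualizing complexes. -/
theorem isDualizingSch_Lpull (K : DCoh.D Y) (hK : Dual2.IsDualizingSch Y K) :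
    Dual2.IsDualizingSch X ((DCoh.Lpull f).obj K) := by
  haveI : IsLocallyNoetherian X := LocallyOfFiniteType.isLocallyNoetherian f
  refine isDualizingSch_of_cover _ fun x => ?_
  obtain ⟨A, _, j, _, hy⟩ := exists_chart Y (f x)
  obtain ⟨B, _, k, _, φ, hx, h⟩ := exists_chart_hom f j x hy
  obtain ⟨hft, hfl, hA, hB, hG⟩ := chart_algebra f hf φ j k h
  obtain ⟨ω, hω, ⟨e⟩⟩ := hK A j
  letI := φ.toAlgebra
  haveI : Algebra.FiniteType A B := hft
  haveI : Module.Flat A B := hfl
  haveI := hA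
  haveI := hB
  haveI := H9Misc.DRingLBase.hasLBaseChange (algebraMap A B)
  refine ⟨B, inferInstance, k, inferInstance, _, hx,
    isDualizing_LBaseChange_of_gorenstein_fibers hω
      (ringKrullDim_lt_top_of_finiteType (ringKrullDim_lt_top_of_isDualizing hω)) hG,
    nonempty_restrictD_Lpull_tilde f (algebraMap A B) j k h K ω e⟩

/-- Surjective Gorenstein morphisms detect dualizing complexes. -/
theorem isDualizingSch_iff_Lpull [Surjective f] (K : DCoh.D Y) (hKq : DCoh.IsQCohD K) :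
    Dual2.IsDualizingSch Y K ↔ Dual2.IsDualizingSch X ((DCoh.Lpull f).obj K) := by
  refine ⟨isDualizingSch_Lpull f hf K, fun hX A _ j _ => ?_⟩
  haveI : LocallyOfFinitePresentation f :=
    LocallyOfFinitePresentation.iff_locallyOfFiniteType.2 inferInstance
  obtain ⟨M, ⟨eM⟩⟩ := exists_tildeD_iso (R := CommRingCat.of A) (isQCohD_rho j hKq)
  haveI : IsNoetherianRing A := isNoetherianRing_chart j
  have h1 : ∀ x : {x : X // f x ∈ Set.range j.base}, ∃ (B : Type u) (_ : CommRing B)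
      (k : Spec (CommRingCat.of B) ⟶ X) (_ : IsOpenImmersion k) (φ : A →+* B),
      x.1 ∈ Set.range k.base ∧ Spec.map (CommRingCat.ofHom φ) ≫ j = k ≫ f :=
    fun x => exists_chart_hom f j x.1 x.2
  choose B hB k hk φ hxk hφ using h1
  -- the images of the charts are open and cover `Spec A`
  have hop : ∀ x, IsOpen (Set.range (Spec.map (CommRingCat.ofHom (φ x))).base) := fun x => by
    rw [j.isOpenEmbedding.isInducing.isOpen_iff]
    refine ⟨Set.range (Spec.map (CommRingCat.ofHom (φ x)) ≫ j).base, ?_,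
      ?_⟩
    rotate_left
    · rw [show Set.range (Spec.map (CommRingCat.ofHom (φ x)) ≫ j).base =
          j.base '' Set.range (Spec.map (CommRingCat.ofHom (φ x))).base by
        rw [← Set.range_comp]; rfl]
      exact Set.preimage_image_eq _ j.isOpenEmbedding.injective
    haveI := hk x
    rw [hφ x]
    exact (k x ≫ f).isOpenMap.isOpen_range
  obtain ⟨t, ht⟩ := (isCompact_univ : IsCompact (Set.univ : Set (PrimeSpectrum A))).elim_finite_subcover
    _ hop fun p _ => by
      obtain ⟨x, hx⟩ := f.surjective (j p)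
      haveI := hk ⟨x, hx.symm ▸ ⟨p, rfl⟩⟩
      obtain ⟨q, hq⟩ := hxk ⟨x, hx.symm ▸ ⟨p, rfl⟩⟩
      refine Set.mem_iUnion.2 ⟨⟨x, hx.symm ▸ ⟨p, rfl⟩⟩, q, j.isOpenEmbedding.injective ?_⟩
      rw [← Scheme.Hom.comp_apply, hφ, Scheme.Hom.comp_apply, hq, hx]
  letI : ∀ i : t, Algebra A (B i.1) := fun i => (φ i.1).toAlgebra
  haveI : ∀ i : t, Module.Flat A (B i.1) := fun i => by
    haveI := hk i.1
    exact (chart_algebra f hf (φ i.1) j (k i.1) (hφ i.1)).2.1
  haveI : ∀ i : t, DTen.HasLBase (algebraMap A (B i.1)) := fun i => hasLBase _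
  refine ⟨M, isDualizing_of_finite_family (B := fun i : t => B i.1) (fun m hm => ?_) fun i => ?_,
    ⟨eM.symm⟩⟩
  · obtain ⟨x, hxt, q, hq⟩ := Set.mem_iUnion₂.1 (ht (Set.mem_univ (⟨m, hm.isPrime⟩ : PrimeSpectrum A)))
    refine ⟨⟨x, hxt⟩, fun htop => ?_⟩
    have hle : m.map (φ x) ≤ PrimeSpectrum.asIdeal q := by
      rw [Ideal.map_le_iff_le_comap]
      exact (congrArg PrimeSpectrum.asIdeal hq).ge
    exact q.isPrime.ne_top (top_le_iff.1 (htop.ge.trans hle))
  · haveI := hk i.1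
    haveI := H9Misc.DRingLBase.hasLBaseChange (algebraMap A (B i.1))
    obtain ⟨ω, hω, ⟨eω⟩⟩ := hX (B i.1) (k i.1)
    obtain ⟨t'⟩ := nonempty_restrictD_Lpull_tilde f (algebraMap A (B i.1)) j (k i.1) (hφ i.1) K M eM.symm
    obtain ⟨e'⟩ := nonempty_iso_of_tildeD _ (t'.symm ≪≫ eω)
    obtain ⟨eb⟩ := nonempty_LBaseChange_iso (algebraMap A (B i.1))
    exact isDualizing_of_iso (e'.symm ≪≫ eb.app M) hω

end Rows

set_option backward.isDefEq.respectTransparency false in
set_option backward.isDefEq.respectTransparency.types false in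
/-- Flat local complete intersection morphisms are Gorenstein. -/
theorem isGorensteinMor_of_flat_isLCI {X Y : Scheme.{u}} [IsLocallyNoetherian Y] (f : X ⟶ Y)
    [Flat f] (hf : Dual3.IsLCIMor f) : Dual3.IsGorensteinMor f := by
  haveI : LocallyOfFiniteType f := locallyOfFiniteType_of_isLCIMor hf
  intro x
  obtain ⟨U, V, e, hxU, hl⟩ := hf x
  let φ := f.appLE V.1 U.1 e
  letI := φ.hom.toAlgebra
  haveI : Module.Flat Γ(Y, V.1) Γ(X, U.1) := Flat.flat_appLE f V.2 U.2 e
  haveI : Algebra.FiniteType Γ(Y, V.1) Γ(X, U.1) := hl.1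
  let g := Spec.map φ
  obtain ⟨u, hu⟩ : x ∈ Set.range U.2.fromSpec.base := U.2.range_fromSpec.symm ▸ hxU
  have hsq : g ≫ V.2.fromSpec = U.2.fromSpec ≫ f := IsAffineOpen.SpecMap_appLE_fromSpec f V.2 U.2 e
  haveI : LocallyOfFiniteType g := (HasRingHomProperty.Spec_iff (P := @LocallyOfFiniteType)).2 hl.1
  haveI : Flat g := Flat.SpecMap_iff.2 (RingHom.flat_algebraMap_iff.2 inferInstance)
  -- the chart is Gorenstein at `u`
  have hgu : Dual3.IsGorensteinAt g u := by
    refine ⟨Flat.stalkMap g u, ?_⟩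
    let P : PrimeSpectrum Γ(Y, V.1) := g u
    haveI : LocCoh.IsGorensteinRing (P.asIdeal.Fiber Γ(X, U.1)) :=
      Groth.Agent.LC.gorensteinRing_of_ringEquiv
        (Algebra.TensorProduct.comm Γ(Y, V.1) Γ(X, U.1) P.asIdeal.ResidueField).toRingEquiv
        (Groth.Agent.S1830.result Γ(Y, V.1) Γ(X, U.1) hl P)
    let ee := (Arrow.leftFunc).mapIso (Spec.fiberToSpecResidueFieldIso Γ(Y, V.1) Γ(X, U.1) P)
    haveI : IsOpenImmersion ee.inv := inferInstance
    obtain ⟨w, hw⟩ : g.asFiber u ∈ Set.range ee.inv.base :=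
      ⟨ee.hom (g.asFiber u), Scheme.hom_inv_apply ee _⟩
    rw [← hw]
    exact isGorensteinLocalRing_stalk_of_chart ee.inv w
  have hN : ∀ {S T : Scheme.{u}} (q : S ⟶ T) [LocallyOfFiniteType q] (t : T),
      IsLocallyNoetherian (q.fiber t) := fun q _ t =>
    LocallyOfFiniteType.isLocallyNoetherian (q.fiberToSpecResidueField t)
  have h1 := (comp_gorensteinAt g V.2.fromSpec u (hN g) (hN V.2.fromSpec) (hN _)).1 hgu
    (isGorensteinAt_of_isOpenImmersion _ _)
  rw [hsq] at h1
  subst hu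
  exact ((comp_gorensteinAt U.2.fromSpec f u (hN _) (hN f) (hN _)).2 h1
    (Flat.stalkMap U.2.fromSpec u)).2

end Groth.Agent.Dual3Lib
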