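import Groth.Agent.PerfD40.Generator
import Groth.Agent.KFlatLib.Scheme.Adjoint
import Groth.Agent.KFlatLib.Scheme.InnerHom
import Groth.Agent.KFlatLib.Scheme.DualPerfect
import Groth.Agent.KFlatLib.Scheme.Amplitude
import Groth.Agent.DEqLib.Sib.RHomExists
import Groth.Agent.RelPC13.ThickGen
import Groth.Agent.RelPC13.Transfer

/-!
# Detecting isomorphisms with perfect complexes
-/

set_option autoImplicit false
set_option linter.style.haveILetI false
set_option backward.isDefEq.respectTransparency false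

universe u

open CategoryTheory CategoryTheory.Limits Pretriangulated AlgebraicGeometry
open scoped ZeroObject

attribute [local instance] HasDerivedCategory.standard

namespace Groth.Agent.Dual3Lib.PerfDetect

open Groth.Agent.KFlatLib

variable {X S : Scheme.{u}}

theorem isKFlat_single_structure :
    DCoh.IsKFlat ((HomologicalComplex.single X.Modules (ComplexShape.up ℤ) 0).obj (Coh.structureModule X)) := by
  haveI : CochainComplex.IsStrictlyLE
      ((HomologicalComplex.single X.Modules (ComplexShape.up ℤ) 0).obj (Coh.structureModule X)) 0 :=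
    (CochainComplex.isStrictlyLE_iff _ _).2 fun i hi =>
      HomologicalComplex.isZero_single_obj_X _ _ _ _ (by omega)
  refine isKFlat_of_isStrictlyLE _ 0 fun i => ?_
  by_cases hi : i = 0
  · subst hi
    exact IsFlat.of_iso (HomologicalComplex.singleObjXSelf _ 0 (Coh.structureModule X)).symm
      isFlat_structureModule
  · exact IsFlat.of_isZero (HomologicalComplex.isZero_single_obj_X _ _ _ _ hi)

/-- The structure sheaf is a unit for the derived tensor product. -/
theorem nonempty_LTensorCx_structure (P : CochainComplex X.Modules ℤ) (hP : DCoh.IsKFlat P)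
    [DCoh.HasLTensorCx P] :
    Nonempty ((DCoh.LTensorCx P).obj (DCoh.inD X (Coh.structureModule X)) ≅ DCoh.toD X P) := by
  let S0 := (HomologicalComplex.single X.Modules (ComplexShape.up ℤ) 0).obj (Coh.structureModule X)
  haveI := fun N => isIso_LTensorCx_counit_of_isKFlat_right P hP N
  obtain ⟨er⟩ := nonempty_tensorUnitIso P
  let el : (DCoh.tensorCx.obj S0).obj P ≅ P := (symmIso (tensorBiFlipIso X) P).app S0 ≪≫ er
  exact ⟨(DCoh.LTensorCx P).mapIso ((DerivedCategory.singleFunctorIsoCompQ X.Modules 0).app _) ≪≫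
    asIso (((DCoh.tensorCxQ P).totalLeftDerivedCounit DerivedCategory.Q (qisX X)).app S0) ≪≫
      DerivedCategory.Q.mapIso el⟩

/-- The derived pullback of the structure sheaf. -/
theorem nonempty_Lpull_structure (f : X ⟶ S) [DCoh.HasLpull f] :
    Nonempty ((DCoh.Lpull f).obj (DCoh.inD S (Coh.structureModule S)) ≅
      DCoh.inD X (Coh.structureModule X)) := by
  haveI : IsIso ((lpullComparison f).app ((CochainComplex.singleFunctor S.Modules 0).obj
      (Coh.structureModule S))) := isIso_lpullComparison f (isKFlat_single_structure (X := S))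
  haveI : IsIso (SheafOfModules.pullbackObjUnitToUnit f.toRingCatSheafHom) := inferInstance
  let e : (Scheme.Modules.pullback f).obj (Coh.structureModule S) ≅ Coh.structureModule X :=
    asIso (SheafOfModules.pullbackObjUnitToUnit f.toRingCatSheafHom)
  exact ⟨(DCoh.Lpull f).mapIso ((DerivedCategory.singleFunctorIsoCompQ S.Modules 0).app _) ≪≫
    asIso ((lpullComparison f).app _) ≪≫
      DerivedCategory.Q.mapIso
        ((HomologicalComplex.singleMapHomologicalComplex (Scheme.Modules.pullback f) _ 0).app _ ≪≫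
          (HomologicalComplex.single _ _ 0).mapIso e) ≪≫
      ((DerivedCategory.singleFunctorIsoCompQ X.Modules 0).app _).symm⟩

/-- Maps out of perfect objects see an isomorphism on `Rf_* RHom(E, -)`. -/
theorem bijective_comp (f : X ⟶ S) [DCoh.HasRpush f] {F G : DCoh.D X} (φ : F ⟶ G)
    (h : ∀ (E : CochainComplex X.Modules ℤ) [DCoh.HasLTensorCx E] [DCoh.HasRSheafHom E],
      DCoh.IsPerfect (DCoh.toD X E) → IsIso ((DCoh.Rpush f).map ((DCoh.RSheafHom E).map φ)))
    (P : DCoh.D X) (hP : DCoh.IsPerfect P) : Function.Bijective (fun a : P ⟶ F => a ≫ φ) := by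
  let K := (kRes X).obj (DerivedCategory.Q.objPreimage P)
  let eK : DCoh.toD X K ≅ P := (resQIso X).app _ ≪≫ DerivedCategory.Q.objObjPreimageIso P
  haveI := hasLTensorCx K
  haveI := DEqLib.Sib.RHomExists.hasRSheafHom K
  haveI := hasLpull f
  obtain ⟨a⟩ := nonempty_lpull_rpush_adj f
  obtain ⟨u⟩ := nonempty_LTensorCx_structure K (isKFlat_kRes _)
  obtain ⟨v⟩ := nonempty_Lpull_structure f
  haveI := h K ((PerfD40.isPerfect_of_iso' eK.symm hP))
  let adj := a.comp (DCoh.RSheafHomAdj K)
  let w : (DCoh.Lpull f ⋙ DCoh.LTensorCx K).obj (DCoh.inD S (Coh.structureModule S)) ≅ P :=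
    (DCoh.LTensorCx K).mapIso v ≪≫ u ≪≫ eK
  haveI : IsIso ((DCoh.RSheafHom K ⋙ DCoh.Rpush f).map φ) :=
    inferInstanceAs (IsIso ((DCoh.Rpush f).map ((DCoh.RSheafHom K).map φ)))
  have key : ∀ x : P ⟶ F, adj.homEquiv _ _ (w.hom ≫ x ≫ φ) =
      adj.homEquiv _ _ (w.hom ≫ x) ≫ (DCoh.RSheafHom K ⋙ DCoh.Rpush f).map φ := fun x => by
    rw [← adj.homEquiv_naturality_right, Category.assoc]
  refine ⟨fun x y hxy => (cancel_epi w.hom).1 ((adj.homEquiv _ _).injective ?_), fun y => ?_⟩
  · have := congrArg (fun z => adj.homEquiv _ _ (w.hom ≫ z)) hxy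
    simp only [key] at this
    exact (cancel_mono ((DCoh.RSheafHom K ⋙ DCoh.Rpush f).map φ)).1 this
  · refine ⟨w.inv ≫ (adj.homEquiv _ _).symm (adj.homEquiv _ _ (w.hom ≫ y) ≫
      inv ((DCoh.RSheafHom K ⋙ DCoh.Rpush f).map φ)), ?_⟩
    refine (cancel_epi w.hom).1 ((adj.homEquiv _ _).injective ?_)
    rw [key, Iso.hom_inv_id_assoc, Equiv.apply_symm_apply, Category.assoc, IsIso.inv_hom_id,
      Category.comp_id]

/-- The restriction to the empty open subscheme vanishes. -/
theorem isZero_restrictD_bot (C : DCoh.D X)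
    [PreservesFiniteLimits (Scheme.Modules.restrictFunctor (⊥ : X.Opens).ι)] :
    IsZero ((DCoh.restrictD (⊥ : X.Opens).ι).obj C) := by
  haveI : IsEmpty ((⊥ : X.Opens) : Scheme.{u}) := ⟨fun x => x.2⟩
  generalize (DCoh.restrictD (⊥ : X.Opens).ι).obj C = C'
  haveI : IsIso (0 : C' ⟶ 0) := (DerivedCategory.isIso_iff _ _).2 fun n =>
    ⟨⟨0, (RelPC13.isZero_modules_of_isEmpty _).eq_of_src _ _,
      (RelPC13.isZero_modules_of_isEmpty _).eq_of_src _ _⟩⟩
  exact (isZero_zero _).of_iso (asIso (0 : C' ⟶ 0))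

/-- An object with no maps from perfect objects vanishes. -/
theorem isIso_of_bijective [CompactSpace X] [QuasiSeparatedSpace X] {F G : DCoh.D X} (φ : F ⟶ G)
    (hF : DCoh.IsQCohD F) (hG : DCoh.IsQCohD G)
    (h : ∀ P, DCoh.IsPerfect P → Function.Bijective (fun a : P ⟶ F => a ≫ φ)) : IsIso φ := by
  obtain ⟨C, α, β, hT⟩ := distinguished_cocone_triangle φ
  have hC : DCoh.IsQCohD C := isQCohD_obj₃ hT hF hG
  obtain ⟨R, hR, -, hgen⟩ := PerfD40.hasGen X ⊥ (by simp)
  haveI : PreservesFiniteLimits (Scheme.Modules.restrictFunctor (⊥ : X.Opens).ι) := preservesFiniteLimits_restrict _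
  have hz : IsZero ((DCoh.restrictD (⊥ : X.Opens).ι).obj C) := isZero_restrictD_bot C
  suffices IsZero C from (Triangle.isZero₃_iff_isIso₁ _ hT).1 this
  refine hgen C hC hz fun n ψ => ?_
  have hRn := RelPC13.isPerfect_shift hR n
  have h1 : ψ ≫ β = 0 := by
    obtain ⟨χ, hχ⟩ := (shiftFunctor (DCoh.D X) (1 : ℤ)).map_surjective
      (((shiftFunctorAdd' (DCoh.D X) (n - 1) 1 n (by omega)).app R).inv ≫ ψ ≫ β)
    have hz' : χ ≫ φ = 0 := by
      refine (shiftFunctor (DCoh.D X) (1 : ℤ)).map_injective ?_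
      rw [Functor.map_comp, hχ, Category.assoc, Category.assoc]
      have h31 : β ≫ φ⟦(1 : ℤ)⟧' = 0 := comp_distTriang_mor_zero₃₁ _ hT
      rw [h31, comp_zero, comp_zero, Functor.map_zero]
    have hχ0 : χ = 0 := (h _ (RelPC13.isPerfect_shift hR (n - 1))).1 (by simpa using hz')
    rw [hχ0, Functor.map_zero] at hχ
    exact (cancel_epi ((shiftFunctorAdd' (DCoh.D X) (n - 1) 1 n (by omega)).app R).inv).1
      (hχ.symm.trans comp_zero.symm)
  obtain ⟨ρ, rfl⟩ := Triangle.coyoneda_exact₃ _ hT ψ h1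
  obtain ⟨a, rfl⟩ := (h _ hRn).2 ρ
  rw [Category.assoc]
  exact (congrArg (a ≫ ·) (comp_distTriang_mor_zero₁₂ _ hT)).trans comp_zero

end Groth.Agent.Dual3Lib.PerfDetect
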