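import Groth.Agent.KFlatLib.Scheme.TildePull
import Groth.Agent.KFlatLib.Perfect.DLocal
import Groth.Agent.KFlatLib.Scheme.GlueD

/-!
# Restriction to an open subscheme is derived pullback
-/

set_option linter.style.haveILetI false

universe u

open CategoryTheory CategoryTheory.Limits AlgebraicGeometry

attribute [local instance] HasDerivedCategory.standard

namespace Groth.Agent.Dual3Lib

open Groth.Agent.KFlatLib

variable {U X : Scheme.{u}}

/-- Restriction of complexes is pullback of complexes. -/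
noncomputable def pullCxIsoRCx (j : U ⟶ X) [IsOpenImmersion j] : pullCx j ≅ rCx j :=
  NatIso.mapHomologicalComplex (Scheme.Modules.restrictFunctorIsoPullback j).symm _

/-- `Lj^*` is restriction, for an open immersion `j`. -/
theorem nonempty_lpull_iso_restrictD (j : U ⟶ X) [IsOpenImmersion j] [DCoh.HasLpull j]
    [PreservesFiniteLimits (Scheme.Modules.restrictFunctor j)] :
    Nonempty (DCoh.Lpull j ≅ DCoh.restrictD j) := by
  let e₁ : DerivedCategory.Q ⋙ DCoh.Lpull j ≅ kRes X ⋙ DerivedCategory.Q ⋙ DCoh.restrictD j :=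
    lpullResIso j ≪≫ Functor.isoWhiskerLeft (kRes X)
      (Functor.isoWhiskerRight (pullCxIsoRCx j) _ ≪≫
        (Scheme.Modules.restrictFunctor j).mapDerivedCategoryFactors.symm)
  let e₂ : DerivedCategory.Q ⋙ DCoh.Lpull j ≅ DerivedCategory.Q ⋙ DCoh.restrictD j :=
    e₁ ≪≫ (Functor.associator _ _ _).symm ≪≫ Functor.isoWhiskerRight (resQIso X) _
  exact ⟨Localization.liftNatIso DerivedCategory.Q (qisX X) _ _ _ _ e₂⟩

theorem nonempty_lpull_obj_iso (j : U ⟶ X) [IsOpenImmersion j] [DCoh.HasLpull j]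
    [PreservesFiniteLimits (Scheme.Modules.restrictFunctor j)] (K : DCoh.D X) :
    Nonempty ((DCoh.Lpull j).obj K ≅ (DCoh.restrictD j).obj K) :=
  (nonempty_lpull_iso_restrictD j).map fun e => e.app K

variable {A B : Type u} [CommRing A] [CommRing B] (φ : A →+* B)
  [PreservesFiniteLimits (tilde.functor (CommRingCat.of A))]
  [PreservesFiniteLimits (tilde.functor (CommRingCat.of B))]

/-- Restriction of `M~` to an affine open is `(M ⊗ B)~`. -/
theorem nonempty_restrictD_tildeD [IsOpenImmersion (Spec.map (CommRingCat.ofHom φ))]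
    [PreservesFiniteLimits (Scheme.Modules.restrictFunctor (Spec.map (CommRingCat.ofHom φ)))]
    [DRing.HasLBaseChange φ] (ω : Dual.D A) :
    Nonempty ((DCoh.restrictD (Spec.map (CommRingCat.ofHom φ))).obj
        ((DCoh.tildeD (CommRingCat.of A)).obj ω) ≅
      (DCoh.tildeD (CommRingCat.of B)).obj ((DRing.LBaseChange φ).obj ω)) := by
  haveI := hasLpull (Spec.map (CommRingCat.ofHom φ))
  obtain ⟨e⟩ := nonempty_lpull_iso_restrictD (Spec.map (CommRingCat.ofHom φ))
  obtain ⟨e'⟩ := nonempty_tildeD_lpull_iso φ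
  exact ⟨(e.app _).symm ≪≫ (e'.app ω).symm⟩

end Groth.Agent.Dual3Lib
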