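import Groth.Agent.KFlatLib.Ring.DualizingFlat
import Groth.Agent.KFlatLib.Ring.HasLBase
import Mathlib.Algebra.Homology.DerivedCategory.FullyFaithful
import Mathlib.Algebra.Module.FinitePresentation
import Mathlib.RingTheory.Localization.BaseChange

/-!
# An object of `D(A)` isomorphic to a shift of `A` at a prime is so on a basic open
-/

set_option linter.style.haveILetI false

universe u

open CategoryTheory CategoryTheory.Limits TensorProduct

attribute [local instance] HasDerivedCategory.standard

namespace Groth.Agent.Dual3Lib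

open Groth.Agent.KFlatLib

variable {A : Type u} [CommRing A]

/-- Flat base change of a module placed in degree zero. -/
theorem nonempty_LBase_inD {B : Type u} [CommRing B] [Algebra A B] [Module.Flat A B]
    [DTen.HasLBase (algebraMap A B)] (M : Type u) [AddCommGroup M] [Module A M] :
    Nonempty ((DTen.LBase (algebraMap A B)).obj (Dual.inD A M) ≅ Dual.inD B (B ⊗[A] M)) := by
  obtain ⟨_, ⟨e⟩⟩ := exists_LBase_map_iso (B := B) (Dual.inD A M)
  obtain ⟨c⟩ := exists_extendLEquiv (B := B) (ModuleCat.of A M)
  exact ⟨e ≪≫ ((ModuleCat.extendScalars.{u, u, u} (algebraMap A B)).mapDerivedCategorySingleFunctor 0).app _ ≪≫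
    (DerivedCategory.singleFunctor (ModuleCat.{u} B) 0).mapIso c.toModuleIso⟩

/-- Flat base change of `A` in degree zero. -/
theorem nonempty_LBase_inD_self {B : Type u} [CommRing B] [Algebra A B] [Module.Flat A B]
    [DTen.HasLBase (algebraMap A B)] :
    Nonempty ((DTen.LBase (algebraMap A B)).obj (Dual.inD A A) ≅ Dual.inD B B) := by
  obtain ⟨e⟩ := nonempty_LBase_inD (B := B) (A := A) A
  exact ⟨e ≪≫ (DerivedCategory.singleFunctor (ModuleCat.{u} B) 0).mapIso
    (Algebra.TensorProduct.rid A B B).toLinearEquiv.toModuleIso⟩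

/-- The cohomology of a shift of a module. -/
theorem nonempty_HD_shift (M : Type u) [AddCommGroup M] [Module A M] (n i : ℤ) (h : i = -n) :
    Nonempty (Dual.HD A ((Dual.inD A M)⟦n⟧) i ≃ₗ[A] M) := by
  subst h
  exact ⟨((DerivedCategory.homologyFunctor (ModuleCat.{u} A) (-n)).mapIso
    (((DerivedCategory.singleFunctors (ModuleCat.{u} A)).shiftIso n (-n) 0 (by omega)).app _) ≪≫
      (DerivedCategory.singleFunctorCompHomologyFunctorIso (ModuleCat.{u} A) (-n)).app _).toLinearEquiv⟩

/-- A shifted module has no other cohomology. -/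
theorem subsingleton_HD_shift (M : Type u) [AddCommGroup M] [Module A M] (n i : ℤ) (h : i ≠ -n) :
    Subsingleton (Dual.HD A ((Dual.inD A M)⟦n⟧) i) := by
  have e := ((DerivedCategory.singleFunctors (ModuleCat.{u} A)).shiftIso n (-n) 0 (by omega)).app
    (ModuleCat.of A M)
  have hz : IsZero ((DerivedCategory.homologyFunctor (ModuleCat.{u} A) i).obj
      ((DerivedCategory.singleFunctor (ModuleCat.{u} A) (-n)).obj (ModuleCat.of A M))) := by
    rcases lt_or_gt_of_ne h with h | h
    · exact DerivedCategory.isZero_of_isGE _ (-n) i h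
    · exact DerivedCategory.isZero_of_isLE _ (-n) i h
  exact ModuleCat.subsingleton_of_isZero
    (hz.of_iso ((DerivedCategory.homologyFunctor (ModuleCat.{u} A) i).mapIso e))

/-- A finite module killed at a prime is killed on a basic open. -/
theorem exists_smul_eq_zero (p : Ideal A) [p.IsPrime] (M : Type u) [AddCommGroup M] [Module A M]
    [Module.Finite A M] (h : Subsingleton (Localization.AtPrime p ⊗[A] M)) :
    ∃ g ∉ p, ∀ m : M, g • m = 0 := by
  haveI := h
  haveI : Subsingleton (LocalizedModule p.primeCompl M) :=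
    (LocalizedModule.equivTensorProduct p.primeCompl M).injective.subsingleton
  classical
  obtain ⟨t, ht⟩ := ‹Module.Finite A M›.fg_top
  choose r hr hrm using (IsLocalizedModule.subsingleton_iff p.primeCompl
    (LocalizedModule.mkLinearMap p.primeCompl M)).1 inferInstance
  refine ⟨∏ m ∈ t, r m, fun h => ?_, fun m => ?_⟩
  · obtain ⟨i, -, hi⟩ := Ideal.IsPrime.prod_mem_iff.1 h
    exact hr i hi
  · have hle : Submodule.span A (t : Set M) ≤ LinearMap.ker (LinearMap.lsmul A M (∏ m ∈ t, r m)) := by
      refine Submodule.span_le.2 fun x hx => ?_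
      rw [SetLike.mem_coe, LinearMap.mem_ker, LinearMap.lsmul_apply,
        ← Finset.prod_erase_mul t r hx, mul_smul, hrm x, smul_zero]
    have := hle (ht ▸ Submodule.mem_top : m ∈ Submodule.span A (t : Set M))
    rwa [LinearMap.mem_ker, LinearMap.lsmul_apply] at this

/-- If `ω` is a shift of `A` at `p`, it is one on a basic open around `p`. -/
theorem exists_away_iso [IsNoetherianRing A] {ω : Dual.D A} (a b : ℤ) [ω.IsGE a] [ω.IsLE b]
    (hfin : ∀ i : ℤ, Module.Finite A (Dual.HD A ω i)) (p : Ideal A) [p.IsPrime]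
    [DTen.HasLBase (algebraMap A (Localization.AtPrime p))] (n : ℤ)
    (e : (DTen.LBase (algebraMap A (Localization.AtPrime p))).obj ω ≅
      (Dual.inD (Localization.AtPrime p) (Localization.AtPrime p))⟦n⟧) :
    ∃ g ∉ p, ∀ [DTen.HasLBase (algebraMap A (Localization.Away g))],
      Nonempty ((DTen.LBase (algebraMap A (Localization.Away g))).obj ω ≅
        (Dual.inD (Localization.Away g) (Localization.Away g))⟦n⟧) := by
  classical
  let Ap := Localization.AtPrime p
  haveI : Module.Flat A Ap := IsLocalization.flat Ap p.primeCompl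
  have hp : ∀ i : ℤ, Nonempty (Ap ⊗[A] Dual.HD A ω i ≃ₗ[Ap] Dual.HD Ap ((Dual.inD Ap Ap)⟦n⟧) i) :=
    fun i => by
      obtain ⟨c⟩ := exists_hdLBaseLEquiv (B := Ap) ω i
      exact ⟨c.symm.trans ((DerivedCategory.homologyFunctor (ModuleCat.{u} Ap) i).mapIso e).toLinearEquiv⟩
  have hz : ∀ i : ℤ, ∃ g ∉ p, i ≠ -n → ∀ m : Dual.HD A ω i, g • m = 0 := fun i => by
    by_cases hi : i = -n
    · exact ⟨1, fun h => Ideal.IsPrime.ne_top' ((Ideal.eq_top_iff_one p).2 h), fun h => absurd hi h⟩
    haveI := hfin i
    obtain ⟨c⟩ := hp i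
    haveI := subsingleton_HD_shift (A := Ap) Ap n i hi
    obtain ⟨g, hg, hgM⟩ := exists_smul_eq_zero p (Dual.HD A ω i) c.injective.subsingleton
    exact ⟨g, hg, fun _ => hgM⟩
  choose g₁ hg₁ hg₁' using hz
  let M := Dual.HD A ω (-n)
  haveI : Module.Finite A M := hfin (-n)
  haveI : Module.FinitePresentation A M := Module.finitePresentation_of_finite A M
  obtain ⟨c⟩ := hp (-n)
  obtain ⟨c'⟩ := nonempty_HD_shift (A := Ap) Ap n (-n) rfl
  let l : LocalizedModule p.primeCompl M ≃ₗ[A] Ap :=
    ((LocalizedModule.equivTensorProduct p.primeCompl M).trans (c.trans c')).restrictScalars A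
  obtain ⟨r, hr, l', -⟩ := Module.FinitePresentation.exists_lift_equiv_of_isLocalizedModule
    (S := p.primeCompl) (LocalizedModule.mkLinearMap p.primeCompl M) (Algebra.linearMap A Ap) l
  let g₀ := ∏ i ∈ Finset.Icc a b, g₁ i
  refine ⟨r * g₀, fun h => ?_, @fun inst => ?_⟩
  · rcases Ideal.IsPrime.mem_or_mem ‹p.IsPrime› h with h | h
    · exact hr h
    · obtain ⟨i, -, hi⟩ := Ideal.IsPrime.prod_mem_iff.1 h
      exact hg₁ i hi
  let B := Localization.Away (r * g₀)
  haveI : Module.Flat A B := IsLocalization.flat B (Submonoid.powers (r * g₀))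
  have hu : IsUnit (algebraMap A B (r * g₀)) := IsLocalization.Away.algebraMap_isUnit (r * g₀)
  have hzero : ∀ i : ℤ, i ≠ -n → IsZero ((DerivedCategory.homologyFunctor (ModuleCat.{u} B) i).obj
      ((DTen.LBase (algebraMap A B)).obj ω)) := fun i hi => by
    obtain ⟨c⟩ := exists_hdLBaseLEquiv (B := B) ω i
    haveI : Subsingleton (Dual.HD B ((DTen.LBase (algebraMap A B)).obj ω) i) := by
      suffices Subsingleton (B ⊗[A] Dual.HD A ω i) from c.injective.subsingleton
      refine subsingleton_of_forall_eq 0 fun t => ?_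
      by_cases hab : i ∈ Finset.Icc a b
      · have hu' : IsUnit (algebraMap A B (g₁ i)) := by
          rw [map_mul, map_prod] at hu
          exact (IsUnit.prod_iff.1 (isUnit_of_mul_isUnit_right hu)) i hab
        have h0 : algebraMap A B (g₁ i) • t = 0 := by
          induction t using TensorProduct.induction_on with
          | zero => simp
          | tmul x m =>
            rw [algebraMap_smul, ← TensorProduct.tmul_smul, hg₁' i hi m, TensorProduct.tmul_zero]
          | add x y hx hy => rw [smul_add, hx, hy, add_zero]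
        exact hu'.smul_eq_zero.1 h0
      · have : Subsingleton (Dual.HD A ω i) := ModuleCat.subsingleton_of_isZero (by
          simp only [Finset.mem_Icc, not_and_or, not_le] at hab
          rcases hab with h | h
          · exact DerivedCategory.isZero_of_isGE _ a i h
          · exact DerivedCategory.isZero_of_isLE _ b i h)
        exact Subsingleton.elim _ _
    exact ModuleCat.isZero_of_subsingleton _
  haveI : ((DTen.LBase (algebraMap A B)).obj ω).IsGE (-n) :=
    (DerivedCategory.isGE_iff _ _).2 fun i hi => hzero i (by omega)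
  haveI : ((DTen.LBase (algebraMap A B)).obj ω).IsLE (-n) :=
    (DerivedCategory.isLE_iff _ _).2 fun i hi => hzero i (by omega)
  obtain ⟨N, ⟨eN⟩⟩ := DerivedCategory.exists_iso_singleFunctor_obj_of_isGE_of_isLE
    ((DTen.LBase (algebraMap A B)).obj ω) (-n)
  obtain ⟨c⟩ := exists_hdLBaseLEquiv (B := B) ω (-n)
  have hN : Nonempty (N ≅ ModuleCat.of B B) := by
    letI : Algebra (Localization.Away r) B := (IsLocalization.Away.lift (S := Localization.Away r) r
      (g := algebraMap A B) (isUnit_of_mul_isUnit_left (by rwa [map_mul] at hu))).toAlgebra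
    haveI : IsScalarTower A (Localization.Away r) B := IsScalarTower.of_algebraMap_eq fun x =>
      (IsLocalization.Away.lift_eq r _ x).symm
    let Br := Localization.Away r
    let e₁ : Br ⊗[A] M ≃ₗ[Br] Br :=
      (LocalizedModule.equivTensorProduct (Submonoid.powers r) M).symm.trans
        (l'.trans ((LocalizedModule.equivTensorProduct (Submonoid.powers r) A).trans
          (Algebra.TensorProduct.rid A Br Br).toLinearEquiv))
    let e₂ : B ⊗[A] M ≃ₗ[B] B :=
      (TensorProduct.AlgebraTensorModule.cancelBaseChange A Br B B M).symm.trans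
        ((TensorProduct.AlgebraTensorModule.congr (LinearEquiv.refl B B) e₁).trans
          (Algebra.TensorProduct.rid Br B B).toLinearEquiv)
    exact ⟨((DerivedCategory.singleFunctorCompHomologyFunctorIso (ModuleCat.{u} B) (-n)).app N).symm ≪≫
      ((DerivedCategory.homologyFunctor (ModuleCat.{u} B) (-n)).mapIso eN).symm ≪≫
      (c.trans e₂).toModuleIso⟩
  obtain ⟨eM⟩ := hN
  exact ⟨eN ≪≫ (DerivedCategory.singleFunctor (ModuleCat.{u} B) (-n)).mapIso eM ≪≫
    (((DerivedCategory.singleFunctors (ModuleCat.{u} B)).shiftIso n (-n) 0 (by omega)).app _).symm⟩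

end Groth.Agent.Dual3Lib
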